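import Cfsg.Agent.Lib.CharsMore.SUFive.Hard
import Cfsg.Agent.Lib.CharsMore.TwoRadical.Core

/-!
Extensions of SU(5,2) generated by 3-transpositions: the kernel as a transvection module.
-/

set_option autoImplicit false
set_option linter.unusedSectionVars false
set_option linter.style.haveILetI false

namespace CfsgLib.CharsMore.SUFive

open Cfsg CfsgLib.Classical.Unitary CfsgLib.CharsMore.TwoRadical CfsgLib.Involutions
  CfsgLib.ThreeTransp
open Matrix

universe u

variable {F : Type} [Field F] {σ : F →+* F} {hF : Nat.card F = 2 ^ 2} {h : UFrob σ 2}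
variable {G : Type u} [Group G] [Finite G] [Finite (Cfsg.SU 5 F 2)] {D : Set G}
  {π : G →* Cfsg.SU 5 F 2}

/-- The standing hypotheses. -/
structure Ext (hF : Nat.card F = 2 ^ 2) (h : UFrob σ 2) (D : Set G) (π : G →* Cfsg.SU 5 F 2) :
    Prop where
  cls : TClass D
  ker : IsPGroup 2 π.ker
  surj : Function.Surjective π
  simple : IsSimpleGroup (Cfsg.SU 5 F 2)
  na : ∃ x y : Cfsg.SU 5 F 2, x * y ≠ y * x
  cen : Subgroup.center G = ⊥
  elem : IsElementaryAbelian 2 π.ker
  lift : ∀ u, IsPt σ u → ∃ d ∈ D, π d = tt hF h u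
  image : ∀ d ∈ D, ∃ u, IsPt σ u ∧ π d = tt hF h u

/-- The subgroup of twin products over a transvection. -/
def wg (D : Set G) (π : G →* Cfsg.SU 5 F 2) (t : Cfsg.SU 5 F 2) : Subgroup G :=
  Subgroup.closure {x | ∃ d ∈ D, π d = t ∧ x ∈ twinSet D π d}

variable (E : Ext hF h D π)
include E

theorem Ext.kcomm {x y : G} (hx : x ∈ π.ker) (hy : y ∈ π.ker) : Commute x y := by
  haveI := E.elem.1
  exact congrArg Subtype.val (IsMulCommutative.is_comm.comm (⟨x, hx⟩ : π.ker) ⟨y, hy⟩)

theorem Ext.ksq {x : G} (hx : x ∈ π.ker) : x * x = 1 := by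
  rw [← pow_two]; exact E.elem.2 x hx

theorem Ext.kinv {x : G} (hx : x ∈ π.ker) : x⁻¹ = x := inv_eq_of_mul_eq_one_right (E.ksq hx)

theorem Ext.dmul {d : G} (hd : d ∈ D) : d * d = 1 := ts_mul_self E.cls.ts hd

theorem Ext.dinv {d : G} (hd : d ∈ D) : d⁻¹ = d := ts_inv E.cls.ts hd

theorem Ext.wg_le (t : Cfsg.SU 5 F 2) : wg D π t ≤ π.ker := by
  rw [wg, Subgroup.closure_le]
  rintro _ ⟨d, hd, -, t', ht', he, rfl⟩
  rw [SetLike.mem_coe, MonoidHom.mem_ker, map_mul, he, ← map_mul, E.dmul hd, map_one]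

theorem Ext.twin_mem {a d : G} {t : Cfsg.SU 5 F 2} (ha : a ∈ D) (hd : d ∈ D) (ea : π a = t)
    (ed : π d = t) : a * d ∈ wg D π t :=
  Subgroup.subset_closure ⟨d, hd, ed, a, ha, ea.trans ed.symm, rfl⟩

theorem Ext.wg_conj (g : G) {t : Cfsg.SU 5 F 2} {x : G} (hx : x ∈ wg D π t) :
    g * x * g⁻¹ ∈ wg D π (π g * t * (π g)⁻¹) := by
  have hle : wg D π t ≤ (wg D π (π g * t * (π g)⁻¹)).comap (MulAut.conj g).toMonoidHom := by
    conv_lhs => rw [wg]
    rw [Subgroup.closure_le]
    rintro _ ⟨d, hd, he, a, ha, hae, rfl⟩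
    show g * (a * d) * g⁻¹ ∈ wg D π (π g * t * (π g)⁻¹)
    rw [show g * (a * d) * g⁻¹ = (g * a * g⁻¹) * (g * d * g⁻¹) by group]
    exact E.twin_mem (E.cls.conj g a ha) (E.cls.conj g d hd) (by simp [hae, he]) (by simp [he])
  exact hle hx

theorem Ext.wg_fix {u u' : Fin 5 → F} (hu : IsPt σ u) (hu' : IsPt σ u') (huu : uh σ u u' = 0)
    {a : G} (ha : a ∈ D) (hae : π a = tt hF h u') {x : G} (hx : x ∈ wg D π (tt hF h u)) :
    Commute a x := by
  have hle : wg D π (tt hF h u) ≤ Subgroup.centralizer {a} := by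
    rw [wg, Subgroup.closure_le]
    rintro y ⟨d, hd, he, hy⟩
    refine Subgroup.mem_centralizer_singleton_iff.2 ?_
    exact (twinSet_commute E.cls E.ker hd ha
      (by rw [he, hae]; exact tt_commute hF h hu.2 hu'.2 huu) hy).symm.eq
  exact (Subgroup.mem_centralizer_singleton_iff.1 (hle hx)).symm

theorem Ext.wg_step {a : G} (ha : a ∈ D) {t : Cfsg.SU 5 F 2} (he : π a = t) {v : G}
    (hv : v ∈ π.ker) : a * v * a⁻¹ * v ∈ wg D π t := by
  have h1 : a * v * a⁻¹ * v = a * (v * a * v⁻¹) := by rw [E.dinv ha, E.kinv hv]; simp only [mul_assoc]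
  rw [h1]
  exact E.twin_mem ha (E.cls.conj v a ha) he (by simp [MonoidHom.mem_ker.1 hv, he])

theorem Ext.wg_disj {u u' : Fin 5 → F} (hu : IsPt σ u) (hu' : IsPt σ u') (huu : uh σ u u' ≠ 0)
    {x : G} (hx : x ∈ wg D π (tt hF h u)) (hx' : x ∈ wg D π (tt hF h u')) : x = 1 := by
  obtain ⟨d, hd, hde⟩ := E.lift u hu
  obtain ⟨b, hb, hbe⟩ := E.lift u' hu'
  have hnc : ¬ Commute (π d) (π b) := by
    rw [hde, hbe]; exact fun hc => huu ((tt_commute_iff hF h hu hu').1 hc)
  have hle : (⊤ : Subgroup G) ≤ Subgroup.centralizer {x} := by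
    rw [← generated E.cls E.ker E.surj E.simple E.na hd hb hnc, Subgroup.closure_le]
    rintro y (⟨hy, hyc⟩ | rfl)
    · obtain ⟨w, hw, hye⟩ := E.image y hy
      rw [hde, hye, tt_commute_iff hF h hu hw] at hyc
      exact Subgroup.mem_centralizer_singleton_iff.2 (E.wg_fix hu hw hyc hy hye hx).eq
    · exact Subgroup.mem_centralizer_singleton_iff.2 (E.wg_fix hu' hu' hu'.2 hb hbe hx').eq
  rw [← Subgroup.mem_bot, ← E.cen, Subgroup.mem_center_iff]
  exact fun g => Subgroup.mem_centralizer_singleton_iff.1 (hle (Subgroup.mem_top g))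

/-- The kernel as an additive group. -/
@[reducible] def Ext.addComm : AddCommGroup (Additive π.ker) :=
  { (inferInstance : AddGroup (Additive π.ker)) with
    add_comm := fun x y => Additive.toMul.injective (Subtype.ext (E.kcomm x.toMul.2 y.toMul.2).eq) }

/-- The action of the quotient on the kernel. -/
@[reducible] noncomputable def Ext.act :
    DistribMulAction (Cfsg.SU 5 F 2) (Additive π.ker) where
  smul q x := Additive.ofMul (MulAut.conjNormal (Function.surjInv E.surj q) x.toMul)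
  one_smul x := Additive.toMul.injective (Subtype.ext (by
    show Function.surjInv E.surj 1 * (x.toMul : G) * (Function.surjInv E.surj 1)⁻¹ = (x.toMul : G)
    have hm : Function.surjInv E.surj 1 ∈ π.ker := Function.surjInv_eq E.surj 1
    rw [(E.kcomm hm x.toMul.2).eq, mul_inv_cancel_right]))
  mul_smul q q' x := Additive.toMul.injective (Subtype.ext (by
    set a := Function.surjInv E.surj q
    set b := Function.surjInv E.surj q'
    set c := Function.surjInv E.surj (q * q')
    show c * (x.toMul : G) * c⁻¹ = a * (b * (x.toMul : G) * b⁻¹) * a⁻¹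
    have hk : (a * b)⁻¹ * c ∈ π.ker := by
      simp only [MonoidHom.mem_ker, map_mul, map_inv, a, b, c, Function.surjInv_eq E.surj]
      group
    calc c * (x.toMul : G) * c⁻¹
        = (a * b) * (((a * b)⁻¹ * c) * (x.toMul : G) * ((a * b)⁻¹ * c)⁻¹) * (a * b)⁻¹ := by group
      _ = (a * b) * (x.toMul : G) * (a * b)⁻¹ := by rw [(E.kcomm hk x.toMul.2).eq, mul_inv_cancel_right]
      _ = a * (b * (x.toMul : G) * b⁻¹) * a⁻¹ := by group))
  smul_zero q := Additive.toMul.injective (Subtype.ext (by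
    show Function.surjInv E.surj q * 1 * (Function.surjInv E.surj q)⁻¹ = 1
    simp))
  smul_add q x y := Additive.toMul.injective (Subtype.ext (by
    show Function.surjInv E.surj q * ((x.toMul : G) * (y.toMul : G)) * (Function.surjInv E.surj q)⁻¹ =
      Function.surjInv E.surj q * (x.toMul : G) * (Function.surjInv E.surj q)⁻¹ *
        (Function.surjInv E.surj q * (y.toMul : G) * (Function.surjInv E.surj q)⁻¹)
    group))

theorem Ext.act_coe (g : G) (x : Additive π.ker) :
    letI := E.act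
    (((π g • x : Additive π.ker)).toMul : G) = g * (x.toMul : G) * g⁻¹ := by
  set a := Function.surjInv E.surj (π g) with ha
  show a * (x.toMul : G) * a⁻¹ = _
  have hk : g⁻¹ * a ∈ π.ker := by
    simp only [MonoidHom.mem_ker, map_mul, map_inv, ha, Function.surjInv_eq E.surj]
    group
  calc a * (x.toMul : G) * a⁻¹ = g * ((g⁻¹ * a) * (x.toMul : G) * (g⁻¹ * a)⁻¹) * g⁻¹ := by group
    _ = g * (x.toMul : G) * g⁻¹ := by rw [(E.kcomm hk x.toMul.2).eq, mul_inv_cancel_right]

/-- The additive form of `wg`. -/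
def Ext.wadd (_E : Ext hF h D π) (t : Cfsg.SU 5 F 2) : AddSubgroup (Additive π.ker) :=
  Subgroup.toAddSubgroup ((wg D π t).comap π.ker.subtype)

theorem Ext.mem_wadd {t : Cfsg.SU 5 F 2} {x : Additive π.ker} :
    x ∈ E.wadd t ↔ (x.toMul : G) ∈ wg D π t := Iff.rfl

theorem Ext.tmod : letI := E.addComm; letI := E.act; TMod hF h E.wadd := by
  letI := E.addComm
  letI := E.act
  refine ⟨fun v => Additive.toMul.injective (Subtype.ext (E.ksq v.toMul.2)), fun q t v hv => ?_,
    fun u u' hu hu' huu v hv => ?_, fun u hu v => ?_, fun u u' hu hu' huu v hv hv' => ?_,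
    fun v hv => ?_⟩
  · obtain ⟨g, rfl⟩ := E.surj q
    rw [E.mem_wadd, E.act_coe]
    exact E.wg_conj g hv
  · obtain ⟨a, ha, hae⟩ := E.lift u' hu'
    refine Additive.toMul.injective (Subtype.ext ?_)
    rw [← hae, E.act_coe, (E.wg_fix hu hu' huu ha hae (E.mem_wadd.1 hv)).eq, mul_inv_cancel_right]
  · obtain ⟨a, ha, hae⟩ := E.lift u hu
    rw [E.mem_wadd]
    show (((tt hF h u • v : Additive π.ker)).toMul : G) * (v.toMul : G) ∈ _
    conv => arg 2; arg 1; rw [← hae, E.act_coe]
    exact E.wg_step ha hae v.toMul.2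
  · exact Additive.toMul.injective (Subtype.ext (E.wg_disj hu hu' huu hv hv'))
  · refine Additive.toMul.injective (Subtype.ext ?_)
    show (v.toMul : G) = 1
    have hle : (⊤ : Subgroup G) ≤ Subgroup.centralizer {(v.toMul : G)} := by
      rw [← E.cls.gen, Subgroup.closure_le]
      intro d hd
      obtain ⟨u, hu, hde⟩ := E.image d hd
      refine Subgroup.mem_centralizer_singleton_iff.2 ?_
      have := congrArg (fun x : Additive π.ker => (x.toMul : G)) (hv u hu)
      rw [← hde, E.act_coe] at this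
      calc d * (v.toMul : G) = d * (v.toMul : G) * d⁻¹ * d := by group
        _ = (v.toMul : G) * d := by rw [this]
    rw [← Subgroup.mem_bot, ← E.cen, Subgroup.mem_center_iff]
    exact fun g => Subgroup.mem_centralizer_singleton_iff.1 (hle (Subgroup.mem_top g))

theorem Ext.fixed_frame {ω : F} (hω : ω * ω = ω + 1) {i : Fin 5} {z v : G}
    (hz : π z = zf hF h ω i) (hv : v ∈ π.ker) (hc : Commute z v) : v = 1 := by
  letI := E.addComm
  letI := E.act
  have h0 := E.tmod.fixed_frame hω i (v := Additive.ofMul (⟨v, hv⟩ : π.ker)) (by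
    refine Additive.toMul.injective (Subtype.ext ?_)
    rw [← hz, E.act_coe]
    show z * v * z⁻¹ = v
    rw [hc.eq, mul_inv_cancel_right])
  simpa using congrArg (fun x : Additive π.ker => (x.toMul : G)) h0

theorem Ext.hard {ω : F} (hω : ω * ω = ω + 1) {g x v : G} (hg : π g = gRot hF h ω)
    (hx : π x = tt hF h (uTwo ω)) (hv : v ∈ wg D π (tt hF h (third σ uStd (uTwo ω))))
    (he : g * v * g⁻¹ = x * v * x⁻¹) : v = 1 := by
  letI := E.addComm
  letI := E.act
  have h0 := E.tmod.hard hω (δ := Additive.ofMul (⟨v, E.wg_le _ hv⟩ : π.ker)) hv (by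
    refine Additive.toMul.injective (Subtype.ext ?_)
    rw [← hg, ← hx, E.act_coe, E.act_coe]
    exact he)
  simpa using congrArg (fun x : Additive π.ker => (x.toMul : G)) h0

/-- Braid relation for corrected lifts. -/
theorem Ext.braid {u v : Fin 5 → F} (hu : IsPt σ u) (hv : IsPt σ v) (huv : uh σ u v ≠ 0) {a b y z : G}
    (ha : a ∈ D) (hb : b ∈ D) (hae : π a = tt hF h u) (hbe : π b = tt hF h v)
    (hy : y ∈ wg D π (tt hF h u)) (hz : z ∈ wg D π (tt hF h v)) :
    (a * y * (b * z)) ^ 3 = 1 := by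
  have hyk := E.wg_le _ hy
  have hzk := E.wg_le _ hz
  have hR : (a * b) ^ 3 = 1 := by
    refine (E.cls.ts.2 a ha b hb).resolve_left fun e => huv ?_
    rw [← tt_commute_iff hF h hu hv, ← hae, ← hbe]
    exact ((invol_commute_iff (E.cls.ts.1 a ha) (E.cls.ts.1 b hb)).2 e).map π
  set R := a * b with hRdef
  set k := b⁻¹ * y * b * z with hk
  have hkk : k ∈ π.ker := mul_mem (π.normal_ker.conj_mem' _ hyk b) hzk
  have hsum : (R * (R * k * R⁻¹) * R⁻¹) * (R * k * R⁻¹) * k = 1 := by
    letI := E.addComm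
    letI := E.act
    have M := E.tmod
    let Y : Additive π.ker := Additive.ofMul ⟨y, hyk⟩
    let Z : Additive π.ker := Additive.ofMul ⟨z, hzk⟩
    set A := tt hF h u
    set B := tt hF h v
    have hvu : uh σ v u ≠ 0 := fun e => huv (h.swap_zero e)
    have hAB : A * B * (A * B) * (A * B) = 1 := by
      have := congrArg π hR
      rwa [map_one, map_pow, hRdef, map_mul, hae, hbe, pow_succ, pow_two] at this
    have hrev : B * A = A * B * (A * B) := by
      have : (A * B)⁻¹ = A * B * (A * B) := (eq_inv_of_mul_eq_one_left hAB).symm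
      rwa [_root_.mul_inv_rev, tt_inv hF h hu.2, tt_inv hF h hv.2] at this
    obtain ⟨l1, -, l3⟩ := M.line hu hv huv (c := Y) hy
    have l3' := (M.line hv hu hvu (c := Z) hz).2.2
    rw [hrev] at l3'
    have hper : ∀ w : Additive π.ker, (A * B) • (A * B) • (A * B) • w = w := fun w => by
      rw [← mul_smul, ← mul_smul, hAB, one_smul]
    have hZ : (A * B) • (A * B) • Z + (A * B) • Z + Z = 0 := by
      simp only [mul_smul (A * B) (A * B), hper] at l3'
      rw [← l3']; abel
    have hY2 : (A * B) • (A * B) • (A * B) • Y + (A * B) • (A * B) • Y + (A * B) • Y = 0 := by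
      rw [← smul_add, ← smul_add, l3, smul_zero]
    have h0 : (A * B) • (A * B) • (B • Y + Z) + (A * B) • (B • Y + Z) + (B • Y + Z) = 0 := by
      rw [l1]
      simp only [smul_add]
      calc (A * B) • (A * B) • Y + (A * B) • (A * B) • (A * B) • Y + (A * B) • (A * B) • Z +
            ((A * B) • Y + (A * B) • (A * B) • Y + (A * B) • Z) + (Y + (A * B) • Y + Z)
          = ((A * B) • (A * B) • Y + (A * B) • Y + Y) +
            ((A * B) • (A * B) • (A * B) • Y + (A * B) • (A * B) • Y + (A * B) • Y) +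
            ((A * B) • (A * B) • Z + (A * B) • Z + Z) := by abel
        _ = 0 := by rw [l3, hY2, hZ]; simp
    have hkV : ((B • Y + Z : Additive π.ker).toMul : G) = k := by
      show (((B • Y : Additive π.ker)).toMul : G) * z = _
      rw [← hbe, E.act_coe]
      show b * y * b⁻¹ * z = _
      rw [hk, E.dinv hb]
    have hAB' : A * B = π R := by rw [hRdef, map_mul, hae, hbe]
    rw [hAB'] at h0
    generalize B • Y + Z = w at h0 hkV
    have := congrArg (fun x : Additive π.ker => (x.toMul : G)) h0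
    simp only [toMul_add, Subgroup.coe_mul, E.act_coe, hkV, toMul_zero, Subgroup.coe_one] at this
    exact this
  have hfirst : a * y * (b * z) = R * k := by rw [hRdef, hk]; group
  have h1 : R * k * R⁻¹ ∈ π.ker := π.normal_ker.conj_mem _ hkk R
  have h2 : R * (R * k * R⁻¹) * R⁻¹ ∈ π.ker := π.normal_ker.conj_mem _ h1 R
  rw [hfirst]
  calc (R * k) ^ 3 = (R * k * R⁻¹) * (R * (R * k * R⁻¹) * R⁻¹) * (R ^ 3 * k) := by
        simp only [pow_succ, pow_zero, one_mul, mul_assoc, inv_mul_cancel_left]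
    _ = 1 := by rw [hR, one_mul, (E.kcomm h1 h2).eq, hsum]

end CfsgLib.CharsMore.SUFive
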