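import Cfsg.Agent.Lib.CharsMore.SUFive.Mod

/-!
The frame elements of SU(5,2) have no fixed points on transvection modules.
-/

set_option autoImplicit false
set_option linter.unusedSectionVars false
set_option linter.style.haveILetI false

namespace CfsgLib.CharsMore.SUFive

open Cfsg CfsgLib.Classical.Unitary CfsgLib.CharsMore.TwoRadical
open Matrix

variable {F : Type} [Field F] {σ : F →+* F}
variable {hF : Nat.card F = 2 ^ 2} {h : UFrob σ 2}

universe u
variable {V : Type u} [AddCommGroup V] [DistribMulAction (Cfsg.SU 5 F 2) V]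
variable {W : Cfsg.SU 5 F 2 → AddSubgroup V} (M : TMod hF h W)
include M

theorem TMod.free_last {ω : F} (hω : ω * ω = ω + 1) {u : Fin 5 → F} (hu : IsPt σ u) (hu4 : u 4 = 0)
    {c : V} (hc : c ∈ W (tt hF h u)) (hz : zLast hF h ω • c = c) : c = 0 := by
  have hzc : ∀ w : Fin 5 → F, IsPt σ w → w 4 = 0 → Commute (zLast hF h ω) (tt hF h w) :=
    fun w hw hw4 => by
      have := zf_tt hF h hω 4 hw.2 hw4
      simpa [zf] using this
  have hmove : ∀ a b : Fin 5 → F, IsPt σ a → IsPt σ b → a 4 = 0 → b 4 = 0 → uh σ a b ≠ 0 →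
      (∀ x ∈ W (tt hF h b), zLast hF h ω • x = x → x = 0) →
      ∀ x ∈ W (tt hF h a), zLast hF h ω • x = x → x = 0 := by
    intro a b ha hb ha4 hb4 hab hfree x hx hzx
    have h0 := hfree _ (M.line ha hb hab hx).2.1 (by
      rw [← mul_smul, ((hzc a ha ha4).mul_right (hzc b hb hb4)).eq, mul_smul, hzx])
    rwa [smul_eq_zero_iff_eq] at h0
  set u₀ : Fin 5 → F := pv 0 1 1 with hu₀def
  have hu₀ : IsPt σ u₀ := pv_pt hF h (by decide) one_ne_zero
  have hu₀4 : u₀ 4 = 0 := by simp [u₀, pv]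
  have hbase : ∀ x ∈ W (tt hF h u₀), zLast hF h ω • x = x → x = 0 := fun x hx hzx => M.nine hω hx hzx
  rcases ne_or_eq (uh σ u u₀) 0 with hne | he
  · exact hmove u u₀ hu hu₀ hu4 hu₀4 hne hbase c hc hz
  have hpair : ∀ w : Fin 5 → F, IsPt σ w → w 4 = 0 → ∃ a : Fin 5 → F, a 4 = 0 ∧ uh σ a w ≠ 0 := by
    intro w hw hw4
    obtain ⟨a, ha⟩ := exists_pairing_ne hF h hw.1
    refine ⟨a - Pi.single 4 (a 4), by simp, ?_⟩
    rwa [uh_sub_left, uh_single_left, hw4, map_zero, mul_zero, sub_zero]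
  obtain ⟨a, ha4, ha⟩ := hpair u hu hu4
  obtain ⟨b, hb4, hb⟩ := hpair u₀ hu₀ hu₀4
  obtain ⟨y, hy4, hyu, hy0⟩ : ∃ y : Fin 5 → F, y 4 = 0 ∧ uh σ y u ≠ 0 ∧ uh σ y u₀ ≠ 0 := by
    by_cases h1 : uh σ a u₀ = 0
    · by_cases h2 : uh σ b u = 0
      · exact ⟨a + b, by simp [ha4, hb4], by rw [uh_add_left, h2, add_zero]; exact ha,
          by rw [uh_add_left, h1, zero_add]; exact hb⟩
      · exact ⟨b, hb4, h2, hb⟩
    · exact ⟨a, ha4, ha, h1⟩
  obtain ⟨k, hk⟩ := exists_iso_shift hF h hu.2 hyu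
  set v := y + k • u with hvdef
  have e1 : uh σ v u ≠ 0 := by rw [hvdef, uh_add_left, uh_smul_left, hu.2, mul_zero, add_zero]; exact hyu
  have e2 : uh σ v u₀ ≠ 0 := by rw [hvdef, uh_add_left, uh_smul_left, he, mul_zero, add_zero]; exact hy0
  have hv : IsPt σ v := ⟨fun e => e1 (by rw [e, uh_zero_left]), hk⟩
  have hv4 : v 4 = 0 := by simp [v, hy4, hu4]
  exact hmove u v hu hv hu4 hv4 (fun e => e1 (h.swap_zero e))
    (hmove v u₀ hv hu₀ hv4 hu₀4 e2 hbase) c hc hz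

theorem TMod.fixed_last {ω : F} (hω : ω * ω = ω + 1) {v : V} (hv : zLast hF h ω • v = v) : v = 0 := by
  obtain ⟨hω0, hω1, hω2, hω3⟩ := omega_ne hF hω
  set z := zLast hF h ω with hzdef
  have hfix4 : ∀ w : Fin 5 → F, IsPt σ w → w 4 = 0 → tt hF h w • v = v := by
    intro w hw hw4
    have hzc : Commute z (tt hF h w) := by
      have := zf_tt hF h hω 4 hw.2 hw4
      simpa [zf] using this
    refine M.eq_of_add ?_
    refine M.free_last hω hw hw4 (M.step w hw v) ?_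
    rw [← hzdef, smul_add, ← mul_smul, hzc.eq, mul_smul, hv]
  -- the last pair
  set a0 : Fin 5 → F := ![0, 0, 0, 1, 1] with ha0
  set a1 : Fin 5 → F := ![0, 0, 0, 1, ω] with ha1
  obtain ⟨q1, q2, q3, q4, p0, p1⟩ := two_vectors hF h hω
  have nz : ∀ (f : Fin 5 → F) (k : Fin 5), f k = 1 → f ≠ 0 := fun f k hk e => by rw [e] at hk; simp at hk
  have hP0 : IsPt σ a0 := ⟨nz _ 3 rfl, p0⟩
  have hP1 : IsPt σ a1 := ⟨nz _ 3 rfl, p1⟩
  have h01 : uh σ a0 a1 ≠ 0 := by
    have e : uh σ a0 a1 = ω := by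
      simp [uh_five hF h, a0, a1, hω, addF hF, add_comm, add_left_comm]
    rw [e]; exact hω0
  have hperp : ∀ b ∈ [a0, a1], ∀ x ∈ W (tt hF h b),
      (tt hF h ![0, 1, 1, 0, 0] * tt hF h ![0, 1, ω, 0, 0] * tt hF h ![1, 0, 1, 0, 0] *
        tt hF h ![1, 0, ω, 0, 0]) • x = x := by
    intro b hb x hx
    simp only [List.mem_cons, List.not_mem_nil, or_false] at hb
    rcases hb with rfl | rfl <;>
    · rw [mul_smul, mul_smul, mul_smul, M.fix _ _ (by assumption) ⟨nz _ 0 rfl, q4⟩ (by simp [uh_five hF h, a0, a1]) x hx,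
        M.fix _ _ (by assumption) ⟨nz _ 0 rfl, q3⟩ (by simp [uh_five hF h, a0, a1]) x hx,
        M.fix _ _ (by assumption) ⟨nz _ 1 rfl, q2⟩ (by simp [uh_five hF h, a0, a1]) x hx,
        M.fix _ _ (by assumption) ⟨nz _ 1 rfl, q1⟩ (by simp [uh_five hF h, a0, a1]) x hx]
  set r := tt hF h a0 * tt hF h a1 with hr
  set p4 := tt hF h ![0, 1, 1, 0, 0] * tt hF h ![0, 1, ω, 0, 0] * tt hF h ![1, 0, 1, 0, 0] *
        tt hF h ![1, 0, ω, 0, 0] with hp4
  have hzr : z = p4 * r := by simp only [hzdef, zLast, hp4, hr, a0, a1, mul_assoc]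
  set c0 := tt hF h a0 • v + v with hc0
  have hc0m : c0 ∈ W (tt hF h a0) := M.step a0 hP0 v
  obtain ⟨ht1, hx1m, hline⟩ := M.line hP0 hP1 h01 hc0m
  rw [← hr] at ht1 hx1m hline
  set x1 := r • c0 with hx1
  have hzc0 : z • c0 = x1 := by rw [hzr, mul_smul, ← hx1, hperp a1 (by simp) x1 hx1m]
  have hzx1 : z • x1 = x1 + c0 := by
    rw [hzr, mul_smul, M.eq_of_add (by rw [← add_assoc]; exact hline : r • x1 + (x1 + c0) = 0), smul_add,
      hperp a1 (by simp) x1 hx1m, hperp a0 (by simp) c0 hc0m]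
  have hzconj : ∀ w : Fin 5 → F, uh σ w w = 0 →
      z • (tt hF h w • v + v) = tt hF h (z.1.1 *ᵥ w) • v + v := by
    intro w hw
    rw [smul_add, ← mul_smul, show z * tt hF h w = tt hF h (z.1.1 *ᵥ w) * z by
      rw [← tt_conj hF h z hw, inv_mul_cancel_right], mul_smul, hv]
  have e1 : z.1.1 *ᵥ a0 = ω • a1 := by
    rw [hzdef, zLast_mulVec hF h hω]; funext k; fin_cases k <;> simp [a0, a1, hω]
  have e2 : z.1.1 *ᵥ a1 = third σ a0 a1 := by
    rw [hzdef, zLast_mulVec hF h hω]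
    funext k
    fin_cases k <;>
      simp [third, uh_five hF h, a0, a1, hω, addF hF, add_comm, add_left_comm, add_self_left hF]
  have g1 : tt hF h a1 • v + v = x1 := by
    rw [← hzc0, hc0, hzconj a0 p0, e1, tt_smul hF h hω0 p1]
  have g0 : tt hF h a0 • v = v + c0 := by rw [hc0, add_comm _ v, ← add_assoc, M.two, zero_add]
  have g1' : tt hF h a1 • v = v + x1 := by rw [← g1, add_comm _ v, ← add_assoc, M.two, zero_add]
  have g2 : x1 + c0 = 0 := by
    rw [← hzx1, ← g1, hzconj a1 p1, e2, ← tt_third hF h p0 p1, mul_smul, mul_smul, g0, smul_add,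
      g1', ht1, show v + x1 + (c0 + x1) = v + c0 + (x1 + x1) by abel, M.two, add_zero, smul_add, g0,
      M.fix a0 a0 hP0 hP0 hP0.2 c0 hc0m, show v + c0 + c0 + v = (v + v) + (c0 + c0) by abel, M.two,
      M.two, add_zero]
  have hc0z : c0 = 0 := M.disj a0 a1 hP0 hP1 h01 c0 hc0m (by rw [← M.eq_of_add g2]; exact hx1m)
  have hfix0 : tt hF h a0 • v = v := by rw [g0, hc0z, add_zero]
  -- spreading
  have hcl : ∀ a b : Fin 5 → F, IsPt σ a → IsPt σ b → tt hF h a • v = v → tt hF h b • v = v →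
      tt hF h (third σ a b) • v = v := by
    intro a b ha hb hfa hfb
    rw [← tt_third hF h ha.2 hb.2, mul_smul, mul_smul, hfa, hfb, hfa]
  have hsw : ∀ (i j : Fin 5), i ≠ j → ∀ d : F, d ≠ 0 → ∀ b : Fin 5 → F, IsPt σ b →
      tt hF h (pv i j d) • v = v → tt hF h b • v = v →
      tt hF h ((tt hF h (pv i j d)).1.1 *ᵥ b) • v = v := by
    intro i j hij d hd b hb h1 h2
    have hp := pv_pt hF h hij hd
    have := hcl _ b hp hb h1 h2
    rwa [third, ← tt_mulVec hF h hp.2] at this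
  have hk3 : ∀ k : Fin 5, k ≠ 3 → k ≠ 4 → ∀ d : F, d ≠ 0 → tt hF h (pv k 4 d) • v = v := by
    intro k hk hk4 d hd
    have hp := pv_pt hF h hk hd
    have h1 := hsw k 3 hk d hd a0 hP0 (hfix4 _ hp (by simp [pv, Ne.symm hk4])) hfix0
    have hsd : σ d ≠ 0 := (map_ne_zero σ).2 hd
    have e : (tt hF h (pv k 3 d)).1.1 *ᵥ a0 = σ d • pv k 4 d := by
      funext l
      rw [pv_mulVec hF h hk hd]
      have hn := norm_eq_one hF h hd
      by_cases l1 : l = k
      · subst l1; simp [a0, pv, hk4]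
      by_cases l2 : l = 3
      · subst l2
        rw [if_neg l1, if_pos rfl, show a0 k = 0 by fin_cases k <;> simp_all [a0]]
        simp [pv, Ne.symm hk]
      by_cases l3 : l = 4
      · subst l3
        simp [a0, pv, l1, l2]
        linear_combination -hn
      · simp [l1, l2, pv, l3]
        fin_cases l <;> simp_all [a0]
    rwa [e, tt_smul hF h hsd (pv_pt hF h hk4 hd).2] at h1
  have h34 : ∀ d : F, d ≠ 0 → tt hF h (pv 3 4 d) • v = v := by
    intro d hd
    have h1 := hsw 3 0 (by decide) d hd (pv 0 4 1) (pv_pt hF h (by decide) one_ne_zero)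
      (hfix4 _ (pv_pt hF h (by decide) hd) (by simp [pv])) (hk3 0 (by decide) (by decide) 1 one_ne_zero)
    have e : (tt hF h (pv 3 0 d)).1.1 *ᵥ pv 0 4 1 = σ d • pv 3 4 d := by
      have hn := norm_eq_one hF h hd
      funext l
      rw [pv_mulVec hF h (by decide) hd]
      fin_cases l <;> simp [pv]
      linear_combination -hn
    rwa [e, tt_smul hF h ((map_ne_zero σ).2 hd) (pv_pt hF h (by decide) hd).2] at h1
  refine M.cen v fun w hw => ?_
  by_cases hw4 : w 4 = 0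
  · exact hfix4 w hw hw4
  obtain ⟨j, hj⟩ := exists_zero hF h hw.2
  have hj4 : j ≠ 4 := fun e => hw4 (e ▸ hj)
  have hp1 : tt hF h (pv j 4 1) • v = v := by
    rcases eq_or_ne j 3 with rfl | hj3
    · exact h34 1 one_ne_zero
    · exact hk3 j hj3 hj4 1 one_ne_zero
  have hp := pv_pt hF h hj4 (one_ne_zero (α := F))
  set P := tt hF h (pv j 4 1) with hP
  have hb := hfix4 _ (map_pt h P hw) (by rw [hP, pv_mulVec hF h hj4 one_ne_zero]; simp [hj4.symm, hj])
  have h1 := hsw j 4 hj4 1 one_ne_zero _ (map_pt h P hw) hp1 hb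
  rwa [← hP, ← su_mul_mulVec, tt_sq hF h hp.2, su_one_mulVec] at h1

/-- Conjugates of fixed-point-free elements. -/
theorem TMod.fixed_conj {ω : F} (hω : ω * ω = ω + 1) (g : Cfsg.SU 5 F 2) {v : V}
    (hv : (g * zLast hF h ω * g⁻¹) • v = v) : v = 0 := by
  have h0 : g⁻¹ • v = 0 := M.fixed_last hω (v := g⁻¹ • v) (by
    conv_rhs => rw [← hv]
    simp only [← mul_smul]
    group)
  rwa [smul_eq_zero_iff_eq] at h0

theorem TMod.fixed_frame {ω : F} (hω : ω * ω = ω + 1) (i : Fin 5) {v : V}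
    (hv : zf hF h ω i • v = v) : v = 0 := by
  unfold zf at hv
  split_ifs at hv with hi
  · exact M.fixed_last hω hv
  · refine M.fixed_conj hω (tt hF h (pv i 4 1)) ?_
    rwa [tt_inv hF h (pv_pt hF h hi one_ne_zero).2]

end CfsgLib.CharsMore.SUFive
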