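import Cfsg.Agent.Lib.CharsMore.SUFive.Free

/-!
The relation between two transvections moving the frame.
-/

set_option autoImplicit false
set_option linter.unusedSectionVars false
set_option linter.style.haveILetI false

namespace CfsgLib.CharsMore.SUFive

open Cfsg CfsgLib.Classical.Unitary CfsgLib.CharsMore.TwoRadical
open Matrix

variable {F : Type} [Field F] {σ : F →+* F}
variable (hF : Nat.card F = 2 ^ 2) (h : UFrob σ 2)

theorem su_ext_single {g k : Cfsg.SU 5 F 2}
    (he : ∀ j, g.1.1 *ᵥ (Pi.single j 1 : Fin 5 → F) = k.1.1 *ᵥ (Pi.single j 1 : Fin 5 → F)) : g = k :=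
  Subtype.ext (Subtype.ext (Matrix.ext fun i j => by
    have := congrFun (he j) i
    simpa [Matrix.mulVec_single] using this))

/-- The standard vector of full support in the first four coordinates. -/
def uStd : Fin 5 → F := ![1, 1, 1, 1, 0]

/-- The companion vector. -/
def uTwo (ω : F) : Fin 5 → F := ![1, 1, ω, 0, 1]

/-- The rotation. -/
noncomputable def gRot (ω : F) : Cfsg.SU 5 F 2 :=
  tt hF h (pv 3 4 ω) * tt hF h (pv 2 3 (ω + 1))

include hF h in
theorem std_pts {ω : F} (hω : ω * ω = ω + 1) : IsPt σ (uStd (F := F)) ∧ IsPt σ (uTwo ω) := by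
  refine ⟨⟨fun e => ?_, ?_⟩, ⟨fun e => ?_, ?_⟩⟩
  · simpa [uStd] using congrFun e 0
  · simp [uh_five hF h, uStd, addF hF, add_assoc, add_self_left hF]
  · simpa [uTwo] using congrFun e 0
  · simp [uh_five hF h, uTwo, hω, mul_add, addF hF, add_comm, add_left_comm, add_self_left hF]

theorem gRot_facts {ω : F} (hω : ω * ω = ω + 1) :
    (gRot hF h ω).1.1 *ᵥ uStd = uTwo ω ∧
      (gRot hF h ω).1.1 *ᵥ uTwo ω = ω • third σ uStd (uTwo ω) ∧
      (gRot hF h ω).1.1 *ᵥ (ω • third σ uStd (uTwo ω)) = uStd := by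
  obtain ⟨hω0, hω1, hω2, hω3⟩ := omega_ne hF hω
  refine ⟨?_, ?_, ?_⟩ <;> funext k <;>
    simp only [gRot, su_mul_mulVec, pv_mulVec hF h (show (3 : Fin 5) ≠ 4 by decide) hω0,
      pv_mulVec hF h (show (2 : Fin 5) ≠ 3 by decide) hω2, third, uh_five hF h] <;>
    fin_cases k <;>
    simp [uStd, uTwo, sigma_mul hF h, hω, mul_add, add_mul, mul_assoc, addF hF, add_comm,
      add_left_comm, add_self_left hF]

universe u
variable {hF : Nat.card F = 2 ^ 2} {h : UFrob σ 2}
variable {V : Type u} [AddCommGroup V] [DistribMulAction (Cfsg.SU 5 F 2) V]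
variable {W : Cfsg.SU 5 F 2 → AddSubgroup V} (M : TMod hF h W)
include M

theorem TMod.hard {ω : F} (hω : ω * ω = ω + 1) {δ : V}
    (hδ : δ ∈ W (tt hF h (third σ uStd (uTwo ω))))
    (heq : gRot hF h ω • δ = tt hF h (uTwo ω) • δ) : δ = 0 := by
  obtain ⟨hω0, hω1, hω2, hω3⟩ := omega_ne hF hω
  obtain ⟨hu, hu'⟩ := std_pts hF h hω
  have hw := third_pt hF h hu hu'
  set w := third σ uStd (uTwo ω) with hwdef
  set q : Fin 5 → F := ![0, 1, ω + 1, ω + 1, 1] with hqdef
  set q1 : Fin 5 → F := ![1, ω + 1, 1, 1, 0] with hq1def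
  have hq : IsPt σ q := ⟨fun e => by simpa [q] using congrFun e 4, by
    simp [uh_five hF h, q, hω, mul_add, add_mul, addF hF, add_comm, add_left_comm, add_self_left hF]⟩
  have hq1 : IsPt σ q1 := ⟨fun e => by
    simpa [q1] using congrFun e 0, by
    simp [uh_five hF h, q1, hω, mul_add, add_mul, addF hF, add_comm, add_left_comm, add_self_left hF]⟩
  set p : Fin 5 → F := pv 3 4 (ω + 1) with hpdef
  have hp : IsPt σ p := pv_pt hF h (by decide) hω2
  set Z := tt hF h q * zLast hF h ω * (tt hF h q)⁻¹ with hZdef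
  have hωl : ∀ y, ω * (ω * y) = ω * y + y := fun y => by rw [← mul_assoc, hω, add_mul, one_mul]
  have hid : tt hF h (uTwo ω) * gRot hF h ω = tt hF h p * tt hF h q1 * Z := by
    refine su_ext_single fun j => funext fun k => ?_
    simp only [hZdef, tt_inv hF h hq.2, gRot, su_mul_mulVec, tt_mulVec hF h hu'.2, tt_mulVec hF h hq.2,
      tt_mulVec hF h hq1.2, zLast_mulVec hF h hω, hpdef,
      pv_mulVec hF h (show (3 : Fin 5) ≠ 4 by decide) hω0,
      pv_mulVec hF h (show (3 : Fin 5) ≠ 4 by decide) hω2,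
      pv_mulVec hF h (show (2 : Fin 5) ≠ 3 by decide) hω2, uh_five hF h, Pi.add_apply, Pi.smul_apply,
      smul_eq_mul]
    fin_cases j <;> fin_cases k <;>
      simp [uTwo, q, q1, sigma_mul hF h, hω, hωl, mul_add, add_mul, mul_comm, mul_left_comm, addF hF,
        add_comm, add_left_comm, add_self_left hF]
  have hZw : Z.1.1 *ᵥ w = ω • w := by
    funext k
    simp only [hZdef, tt_inv hF h hq.2, su_mul_mulVec, tt_mulVec hF h hq.2, zLast_mulVec hF h hω, hwdef,
      third, uh_five hF h, Pi.add_apply, Pi.smul_apply, smul_eq_mul]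
    fin_cases k <;>
      simp [uStd, uTwo, q, hω, hωl, mul_add, add_mul, mul_comm, mul_left_comm, addF hF, add_comm,
        add_left_comm, add_self_left hF]
  have hZd : Z • δ ∈ W (tt hF h w) := by
    have := M.conj_tt Z hw hδ
    rwa [hZw, tt_smul hF h hω0 hw.2] at this
  have h1 : tt hF h (uTwo ω) • gRot hF h ω • δ = δ := by
    rw [heq, ← mul_smul, tt_sq hF h hu'.2, one_smul]
  rw [← mul_smul, hid, mul_smul, mul_smul,
    M.fix w q1 hw hq1 (by
      simp [hwdef, third, uh_five hF h, uStd, uTwo, q1, hω, hωl, mul_add, add_mul, mul_comm,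
        mul_left_comm, addF hF, add_comm, add_left_comm, add_self_left hF]) _ hZd,
    M.fix w p hw hp (by
      simp [hwdef, third, uh_five hF h, uStd, uTwo, p, pv, hω, hωl, mul_add, add_mul, mul_comm,
        mul_left_comm, addF hF, add_comm, add_left_comm, add_self_left hF]) _ hZd] at h1
  exact M.fixed_conj hω (tt hF h q) h1

end CfsgLib.CharsMore.SUFive
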