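import Cfsg.Agent.Lib.CharsMore.SUFive.Ext

/-!
Canonical lifts of the transvections and the complement.
-/

set_option autoImplicit false
set_option linter.unusedSectionVars false
set_option linter.style.haveILetI false

namespace CfsgLib.CharsMore.SUFive

open Cfsg CfsgLib.Classical.Unitary CfsgLib.CharsMore.TwoRadical CfsgLib.Involutions
  CfsgLib.ThreeTransp
open Matrix

universe u

variable {F : Type} [Field F] {σ : F →+* F} {hF : Nat.card F = 2 ^ 2} {h : UFrob σ 2}
variable {G : Type u} [Group G] [Finite G] [Finite (Cfsg.SU 5 F 2)] {D : Set G}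
  {π : G →* Cfsg.SU 5 F 2}

/-- Elements `d * y` over a transvection. -/
def Adm (D : Set G) (π : G →* Cfsg.SU 5 F 2) (t : Cfsg.SU 5 F 2) (x : G) : Prop :=
  ∃ d ∈ D, π d = t ∧ ∃ y ∈ wg D π t, x = d * y

/-- Lifts of the frame elements. -/
structure Frame (hF : Nat.card F = 2 ^ 2) (h : UFrob σ 2) (π : G →* Cfsg.SU 5 F 2) (ω : F)
    (Z : Fin 5 → G) : Prop where
  om : ω * ω = ω + 1
  map : ∀ i, π (Z i) = zf hF h ω i
  comm : ∀ i j, Commute (Z i) (Z j)

/-- The canonical lift at a vector. -/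
def IsL (hF : Nat.card F = 2 ^ 2) (h : UFrob σ 2) (D : Set G) (π : G →* Cfsg.SU 5 F 2)
    (Z : Fin 5 → G) (u : Fin 5 → F) (x : G) : Prop :=
  Adm D π (tt hF h u) x ∧ ∀ i, u i = 0 → Commute x (Z i)

/-- The set of canonical lifts. -/
def IsS (hF : Nat.card F = 2 ^ 2) (h : UFrob σ 2) (D : Set G) (π : G →* Cfsg.SU 5 F 2)
    (Z : Fin 5 → G) (x : G) : Prop :=
  ∃ u : Fin 5 → F, IsPt σ u ∧ IsL hF h D π Z u x

variable (E : Ext hF h D π)
include E

theorem Ext.adm_map {t : Cfsg.SU 5 F 2} {x : G} (hx : Adm D π t x) : π x = t := by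
  obtain ⟨d, hd, he, y, hy, rfl⟩ := hx
  rw [map_mul, he, MonoidHom.mem_ker.1 (E.wg_le t hy), mul_one]

theorem Ext.adm_of {t : Cfsg.SU 5 F 2} {x d : G} (hx : Adm D π t x) (hd : d ∈ D) (he : π d = t) :
    d * x ∈ wg D π t := by
  obtain ⟨e, heD, hee, y, hy, rfl⟩ := hx
  rw [← mul_assoc]
  exact mul_mem (E.twin_mem hd heD he hee) hy

theorem Ext.adm_conj (g : G) {t : Cfsg.SU 5 F 2} {x : G} (hx : Adm D π t x) :
    Adm D π (π g * t * (π g)⁻¹) (g * x * g⁻¹) := by
  obtain ⟨d, hd, he, y, hy, rfl⟩ := hx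
  exact ⟨g * d * g⁻¹, E.cls.conj g d hd, by simp [he], g * y * g⁻¹, E.wg_conj g hy, by group⟩

theorem Ext.adm_sq {u : Fin 5 → F} (hu : IsPt σ u) {x : G} (hx : Adm D π (tt hF h u) x) :
    x * x = 1 := by
  obtain ⟨d, hd, he, y, hy, rfl⟩ := hx
  have hc : Commute d y := E.wg_fix hu hu hu.2 hd he hy
  rw [← pow_two, hc.mul_pow, pow_two, pow_two, E.dmul hd, E.ksq (E.wg_le _ hy), one_mul]

theorem Ext.adm_inv {u : Fin 5 → F} (hu : IsPt σ u) {x : G} (hx : Adm D π (tt hF h u) x) :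
    x⁻¹ = x := inv_eq_of_mul_eq_one_right (E.adm_sq hu hx)

theorem Ext.adm_third {u v : Fin 5 → F} (hu : IsPt σ u) (hv : IsPt σ v) {x y : G}
    (hx : Adm D π (tt hF h u) x) (hy : Adm D π (tt hF h v) y) :
    Adm D π (tt hF h (third σ u v)) (x * y * x) := by
  have := E.adm_conj x hy
  rwa [E.adm_map hx, E.adm_inv hu hx, tt_inv hF h hu.2, tt_third hF h hu.2 hv.2] at this

theorem Ext.adm_commute {u v : Fin 5 → F} (hu : IsPt σ u) (hv : IsPt σ v) (huv : uh σ u v = 0)
    {x y : G} (hx : Adm D π (tt hF h u) x) (hy : Adm D π (tt hF h v) y) : Commute x y := by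
  obtain ⟨a, ha, hae, p, hp, rfl⟩ := hx
  obtain ⟨b, hb, hbe, q, hq, rfl⟩ := hy
  have h1 : Commute a b := lift_commute E.cls E.ker ha hb
    (by rw [hae, hbe]; exact tt_commute hF h hu.2 hv.2 huv)
  have h2 : Commute a q := E.wg_fix hv hu (h.swap_zero huv) ha hae hq
  have h3 : Commute b p := E.wg_fix hu hv huv hb hbe hp
  exact (h1.mul_right h2).mul_left (h3.symm.mul_right (E.kcomm (E.wg_le _ hp) (E.wg_le _ hq)))

theorem Ext.adm_braid {u v : Fin 5 → F} (hu : IsPt σ u) (hv : IsPt σ v) (huv : uh σ u v ≠ 0)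
    {x y : G} (hx : Adm D π (tt hF h u) x) (hy : Adm D π (tt hF h v) y) :
    x * y * x = y * x * y := by
  obtain ⟨a, ha, hae, p, hp, rfl⟩ := hx
  obtain ⟨b, hb, hbe, q, hq, rfl⟩ := hy
  have h3 := E.braid hu hv huv ha hb hae hbe hp hq
  have h1 := E.adm_sq hu ⟨a, ha, hae, p, hp, rfl⟩
  have h2 := E.adm_sq hv ⟨b, hb, hbe, q, hq, rfl⟩
  generalize a * p = x at *
  generalize b * q = y at *
  simp only [pow_succ, pow_zero, one_mul, mul_assoc] at h3
  calc x * y * x = x * y * x * ((y * x * y) * (y * x * y)) := by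
        rw [show y * x * y * (y * x * y) = y * x * (y * y) * x * y by group, h2, mul_one,
          mul_assoc y x x, h1, mul_one, h2, mul_one]
    _ = x * (y * (x * (y * (x * y)))) * (y * x * y) := by group
    _ = y * x * y := by rw [h3, one_mul]

theorem Ext.exists_lastsolve {ω : F} (hω : ω * ω = ω + 1) {i : Fin 5} {z : G}
    (hz : π z = zf hF h ω i) (N : Subgroup G) (hN : N ≤ π.ker) (hNz : ∀ y ∈ N, z * y * z⁻¹ ∈ N)
    {c : G} (hc : c ∈ N) : ∃ y ∈ N, y * (z * y * z⁻¹) = c := by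
  let f : N → N := fun y => ⟨y * (z * y * z⁻¹), mul_mem y.2 (hNz y y.2)⟩
  have hinj : Function.Injective f := by
    intro a b hab
    have h' : (a : G) * (z * a * z⁻¹) = b * (z * b * z⁻¹) := congrArg Subtype.val hab
    have hd : (a : G) * b ∈ π.ker := mul_mem (hN a.2) (hN b.2)
    have hza : z * (a : G) * z⁻¹ ∈ π.ker := π.normal_ker.conj_mem _ (hN a.2) z
    have hzb : z * (b : G) * z⁻¹ ∈ π.ker := π.normal_ker.conj_mem _ (hN b.2) z
    have e : z * ((a : G) * b) * z⁻¹ = a * b := by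
      calc z * ((a : G) * b) * z⁻¹ = (a * a) * (z * a * z⁻¹) * (z * b * z⁻¹) := by
            rw [E.ksq (hN a.2)]; group
        _ = a * (b * (z * b * z⁻¹)) * (z * b * z⁻¹) := by rw [← h']; group
        _ = a * b := by
            rw [mul_assoc (a : G), mul_assoc (b : G), E.ksq hzb, mul_one]
    have h1 := E.fixed_frame hω hz hd (mul_inv_eq_iff_eq_mul.1 e)
    apply Subtype.ext
    calc (a : G) = a * (b * b) := by rw [E.ksq (hN b.2), mul_one]
      _ = b := by rw [← mul_assoc, h1, one_mul]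
  obtain ⟨y, hy⟩ := (Finite.injective_iff_surjective.1 hinj) ⟨c, hc⟩
  exact ⟨y, y.2, congrArg Subtype.val hy⟩

theorem Ext.uniq_of_comm {ω : F} (hω : ω * ω = ω + 1) {i : Fin 5} {z x x' : G}
    (hz : π z = zf hF h ω i) (he : π x = π x') (h1 : Commute x z) (h2 : Commute x' z) : x = x' := by
  have hk : x⁻¹ * x' ∈ π.ker := by rw [MonoidHom.mem_ker, map_mul, map_inv, he, inv_mul_cancel]
  have := E.fixed_frame hω hz hk (h1.inv_left.mul_left h2).symm
  exact (inv_mul_eq_one.1 this)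

/-- Lifts commuting with a frame element. -/
theorem Ext.lift_comm {ω : F} (hω : ω * ω = ω + 1) {i : Fin 5} {z x : G}
    (hz : π z = zf hF h ω i) (N : Subgroup G) (hN : N ≤ π.ker) (hNz : ∀ y ∈ N, z * y * z⁻¹ ∈ N)
    (hc : x⁻¹ * z * x * z⁻¹ ∈ N) : ∃ y ∈ N, Commute (x * y) z := by
  obtain ⟨y, hy, he⟩ := E.exists_lastsolve hω hz N hN hNz hc
  refine ⟨y, hy, ?_⟩
  show x * y * z = z * (x * y)
  have h1 : (z * y * z⁻¹) * (z * y * z⁻¹) = 1 := E.ksq (hN (hNz y hy))
  calc x * y * z = x * (y * (z * y * z⁻¹) * (z * y * z⁻¹)) * z := by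
        rw [mul_assoc y, h1, mul_one]
    _ = z * (x * y) := by rw [he]; group

theorem Ext.exists_frame {ω : F} (hω : ω * ω = ω + 1) : ∃ Z : Fin 5 → G, Frame hF h π ω Z := by
  obtain ⟨z0, hz0⟩ := E.surj (zf hF h ω 0)
  have hex : ∀ i, ∃ z, π z = zf hF h ω i ∧ Commute z z0 := by
    intro i
    obtain ⟨x, hx⟩ := E.surj (zf hF h ω i)
    obtain ⟨y, hy, hyc⟩ := E.lift_comm hω hz0 π.ker le_rfl
      (fun y hy => π.normal_ker.conj_mem y hy z0) (x := x) (by
        rw [MonoidHom.mem_ker]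
        simp only [map_mul, map_inv, hx, hz0]
        rw [mul_assoc (zf hF h ω i)⁻¹, (zf_commute hF h hω 0 i).eq]
        group)
    exact ⟨x * y, by rw [map_mul, MonoidHom.mem_ker.1 hy, mul_one, hx], hyc⟩
  choose Z hZ hZc using hex
  refine ⟨Z, hω, hZ, fun i j => ?_⟩
  have hk : Z i * Z j * (Z i)⁻¹ * (Z j)⁻¹ ∈ π.ker := by
    rw [MonoidHom.mem_ker]
    simp only [map_mul, map_inv, hZ, (zf_commute hF h hω i j).eq]
    group
  have := E.fixed_frame hω hz0 hk
    ((((hZc i).mul_left (hZc j)).mul_left (hZc i).inv_left).mul_left (hZc j).inv_left).symm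
  exact mul_inv_eq_iff_eq_mul.1 (mul_inv_eq_one.1 this)

variable {ω : F} {Z : Fin 5 → G} (hZ : Frame hF h π ω Z)
include hZ

theorem Ext.adm_conj_z {u : Fin 5 → F} (hu : IsPt σ u) {j : Fin 5} (hj : u j = 0) {x : G}
    (hx : Adm D π (tt hF h u) x) : Adm D π (tt hF h u) (Z j * x * (Z j)⁻¹) := by
  have := E.adm_conj (Z j) hx
  rwa [hZ.map, (zf_tt hF h hZ.om j hu.2 hj).eq, mul_inv_cancel_right] at this

theorem Ext.isL_of_one {u : Fin 5 → F} (hu : IsPt σ u) {x : G} (hx : Adm D π (tt hF h u) x)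
    {i : Fin 5} (hi : u i = 0) (hc : Commute x (Z i)) : IsL hF h D π Z u x := by
  refine ⟨hx, fun j hj => ?_⟩
  have h1 : Z j * x * (Z j)⁻¹ = x := by
    refine E.uniq_of_comm hZ.om (hZ.map i) ?_ ?_ hc
    · rw [E.adm_map hx, E.adm_map (E.adm_conj_z hZ hu hj hx)]
    · exact ((hZ.comm j i).mul_left hc).mul_left (hZ.comm j i).inv_left
  exact (mul_inv_eq_iff_eq_mul.1 h1).symm

theorem Ext.exists_L {u : Fin 5 → F} (hu : IsPt σ u) : ∃ x, IsL hF h D π Z u x := by
  obtain ⟨i, hi⟩ := exists_zero hF h hu.2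
  obtain ⟨d, hd, he⟩ := E.lift u hu
  have hzt := zf_tt hF h hZ.om i hu.2 hi
  have hconj : π (Z i * d * (Z i)⁻¹) = tt hF h u := by
    rw [map_mul, map_mul, map_inv, he, hZ.map, hzt.eq, mul_inv_cancel_right]
  obtain ⟨y, hy, hc⟩ := E.lift_comm hZ.om (hZ.map i) (wg D π (tt hF h u)) (E.wg_le _)
    (fun y hy => by
      have := E.wg_conj (Z i) hy
      rwa [hZ.map, hzt.eq, mul_inv_cancel_right] at this)
    (x := d) (by
      rw [E.dinv hd, show d * Z i * d * (Z i)⁻¹ = d * (Z i * d * (Z i)⁻¹) by group]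
      exact E.twin_mem hd (E.cls.conj _ d hd) he hconj)
  exact ⟨d * y, E.isL_of_one hZ hu ⟨d, hd, he, y, hy, rfl⟩ hi hc⟩

theorem Ext.isL_unique {u : Fin 5 → F} (hu : IsPt σ u) {x x' : G} (hx : IsL hF h D π Z u x)
    (hx' : IsL hF h D π Z u x') : x = x' := by
  obtain ⟨i, hi⟩ := exists_zero hF h hu.2
  exact E.uniq_of_comm hZ.om (hZ.map i) (by rw [E.adm_map hx.1, E.adm_map hx'.1]) (hx.2 i hi)
    (hx'.2 i hi)

theorem Ext.isL_smul {u : Fin 5 → F} (hu : IsPt σ u) {c : F} (hc : c ≠ 0) {x : G} :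
    IsL hF h D π Z (c • u) x ↔ IsL hF h D π Z u x := by
  simp only [IsL, tt_smul hF h hc hu.2, Pi.smul_apply, smul_eq_zero, hc, false_or]

theorem Ext.isS_unique {x x' : G} (hx : IsS hF h D π Z x) (hx' : IsS hF h D π Z x')
    (he : π x = π x') : x = x' := by
  obtain ⟨u, hu, hux⟩ := hx
  obtain ⟨v, hv, hvx⟩ := hx'
  rw [E.adm_map hux.1, E.adm_map hvx.1] at he
  obtain ⟨c, hc, rfl⟩ := line_of_tt_eq hF h hu hv he
  exact E.isL_unique hZ hu hux ((E.isL_smul hZ hu hc).1 hvx)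

theorem Ext.conj_share {u v : Fin 5 → F} (hu : IsPt σ u) (hv : IsPt σ v) {i : Fin 5} (hui : u i = 0)
    (hvi : v i = 0) {x y : G} (hx : IsL hF h D π Z u x) (hy : IsL hF h D π Z v y) :
    IsS hF h D π Z (x * y * x) :=
  ⟨third σ u v, third_pt hF h hu hv, E.isL_of_one hZ (third_pt hF h hu hv)
    (E.adm_third hu hv hx.1 hy.1) (i := i) (by simp [third, hui, hvi])
    (((hx.2 i hui).mul_left (hy.2 i hvi)).mul_left (hx.2 i hui))⟩

theorem Ext.conj_comm {u v : Fin 5 → F} (hu : IsPt σ u) (hv : IsPt σ v) (huv : uh σ u v = 0)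
    {x y : G} (hx : IsL hF h D π Z u x) (hy : IsL hF h D π Z v y) :
    IsS hF h D π Z (x * y * x) := by
  rw [(E.adm_commute hu hv huv hx.1 hy.1).eq, mul_assoc, E.adm_sq hu hx.1, mul_one]
  exact ⟨v, hv, hy⟩

theorem Ext.conj_symm {u v : Fin 5 → F} (hu : IsPt σ u) (hv : IsPt σ v) {x y : G}
    (hx : IsL hF h D π Z u x) (hy : IsL hF h D π Z v y) (hS : IsS hF h D π Z (y * x * y)) :
    IsS hF h D π Z (x * y * x) := by
  rcases eq_or_ne (uh σ u v) 0 with h0 | h0
  · exact E.conj_comm hZ hu hv h0 hx hy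
  · rwa [E.adm_braid hu hv h0 hx.1 hy.1]

theorem Ext.conj_two {i j : Fin 5} (hij : i ≠ j) {c : F} (hc : c ≠ 0) {x y : G}
    (hx : IsL hF h D π Z (pv i j c) x) (hyS : IsS hF h D π Z y) : IsS hF h D π Z (x * y * x) := by
  obtain ⟨v, hv, hy⟩ := hyS
  have hp := pv_pt hF h hij hc
  obtain ⟨k, hk⟩ := exists_zero hF h hv.2
  by_cases hk' : k ≠ i ∧ k ≠ j
  · exact E.conj_share hZ hp hv (i := k) (by simp [pv, hk'.1, hk'.2]) hk hx hy
  obtain ⟨l, hli, hlj⟩ := (show ∀ i j : Fin 5, ∃ l : Fin 5, l ≠ i ∧ l ≠ j by decide) i j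
  have hl : pv i j c l = 0 := by simp [pv, hli, hlj]
  have hsq := E.adm_sq hp hx.1
  have hswap : x * Z j * x = Z i := by
    refine E.uniq_of_comm hZ.om (hZ.map l) ?_ (((hx.2 l hl).mul_left (hZ.comm j l)).mul_left (hx.2 l hl))
      (hZ.comm i l)
    rw [map_mul, map_mul, E.adm_map hx.1, hZ.map, hZ.map, pv_zf hF h hZ.om hij hc]
  have hswap' : x * Z i * x = Z j := by
    rw [← hswap, show x * (x * Z j * x) * x = (x * x) * Z j * (x * x) by group, hsq, one_mul, mul_one]
  have hA := E.adm_third hp hv hx.1 hy.1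
  have hw := third_pt hF h hp hv
  have hm : third σ (pv i j c) v = (tt hF h (pv i j c)).1.1 *ᵥ v := by rw [tt_mulVec hF h hp.2]; rfl
  have hcm : ∀ a b : Fin 5, x * Z a * x = Z b → v a = 0 → Commute (x * y * x) (Z b) := by
    intro a b e ha
    have h1 := (Commute.conj_iff (h := x)).2 (hy.2 a ha)
    rwa [E.adm_inv hp hx.1, e] at h1
  push Not at hk'
  rcases eq_or_ne k i with rfl | hki
  · refine ⟨_, hw, E.isL_of_one hZ hw hA (i := j) ?_ (hcm k j hswap' hk)⟩
    rw [hm, pv_mulVec hF h hij hc, if_neg hij.symm, if_pos rfl, hk, mul_zero]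
  · obtain rfl := hk' hki
    refine ⟨_, hw, E.isL_of_one hZ hw hA (i := i) ?_ (hcm k i hswap hk)⟩
    rw [hm, pv_mulVec hF h hij hc, if_pos rfl, hk, mul_zero]

/-- Supports of size two. -/
theorem Ext.two_zero {v : Fin 5 → F} (hv : IsPt σ v) {i j : Fin 5} (hij : i ≠ j) (hi : v i = 0)
    (hj : v j = 0) : ∃ (l m : Fin 5) (c a : F), l ≠ m ∧ c ≠ 0 ∧ a ≠ 0 ∧ v = a • pv l m c := by
  classical
  set S := Finset.univ.filter fun k => v k ≠ 0 with hS
  have hsum : ((S.card : ℕ) : F) = 0 := by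
    rw [← hv.2]
    simp only [uh, dotProduct, Function.comp]
    rw [← Finset.sum_filter_of_ne (p := fun k => v k ≠ 0) (fun k _ hk e => hk (by rw [e, zero_mul]))]
    rw [Finset.sum_congr rfl fun k hk => norm_eq_one hF h (Finset.mem_filter.1 hk).2,
      Finset.sum_const, nsmul_one]
  have hle : S.card ≤ 3 := by
    have hsub : S ⊆ (Finset.univ.erase i).erase j := fun k hk => by
      have hk' := (Finset.mem_filter.1 hk).2
      simp only [Finset.mem_erase, Finset.mem_univ, and_true]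
      exact ⟨fun e => hk' (e ▸ hj), fun e => hk' (e ▸ hi)⟩
    have := Finset.card_le_card hsub
    rwa [Finset.card_erase_of_mem (by simp [hij.symm]), Finset.card_erase_of_mem (by simp),
      Finset.card_univ, Fintype.card_fin] at this
  have hpos : 0 < S.card := by
    rw [Finset.card_pos]
    obtain ⟨k, hk⟩ := Function.ne_iff.1 hv.1
    exact ⟨k, Finset.mem_filter.2 ⟨Finset.mem_univ _, hk⟩⟩
  have h2 : S.card = 2 := by
    have h20 := two_eq_zero hF
    interval_cases hn : S.card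
    · simp at hsum
    · rfl
    · exfalso
      have : (1 : F) = 0 := by push_cast at hsum; linear_combination hsum - h20
      exact one_ne_zero this
  obtain ⟨l, m, hlm, hSlm⟩ := Finset.card_eq_two.1 h2
  have hz : ∀ k, k ≠ l → k ≠ m → v k = 0 := fun k h1 h2 => by
    by_contra h0
    have : k ∈ S := Finset.mem_filter.2 ⟨Finset.mem_univ _, h0⟩
    rw [hSlm] at this
    simp [h1, h2] at this
  have hl : v l ≠ 0 := (Finset.mem_filter.1 (show l ∈ S by rw [hSlm]; simp)).2
  have hm : v m ≠ 0 := (Finset.mem_filter.1 (show m ∈ S by rw [hSlm]; simp)).2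
  refine ⟨l, m, v m / v l, v l, hlm, div_ne_zero hm hl, hl, funext fun k => ?_⟩
  by_cases h1 : k = l
  · subst h1; simp [pv, hlm]
  by_cases h3 : k = m
  · subst h3; simp [pv, h1]; rw [mul_div_cancel₀ _ hl]
  · simp [pv, h1, h3, hz k h1 h3]

theorem Ext.conj_zeros {u v : Fin 5 → F} (hu : IsPt σ u) (hv : IsPt σ v) {i j : Fin 5}
    (hij : i ≠ j) (hi : v i = 0) (hj : v j = 0) {x y : G} (hx : IsL hF h D π Z u x)
    (hy : IsL hF h D π Z v y) : IsS hF h D π Z (x * y * x) := by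
  obtain ⟨l, m, c, a, hlm, hc, ha, rfl⟩ := E.two_zero hZ hv hij hi hj
  exact E.conj_symm hZ hu hv hx hy
    (E.conj_two hZ hlm hc ((E.isL_smul hZ (pv_pt hF h hlm hc) ha).1 hy) ⟨u, hu, hx⟩)

theorem Ext.conj_third_two {u v : Fin 5 → F} (hu : IsPt σ u) (hv : IsPt σ v) {i j : Fin 5}
    (hij : i ≠ j) (hi : third σ u v i = 0) (hj : third σ u v j = 0) {x y : G}
    (hx : IsL hF h D π Z u x) (hy : IsL hF h D π Z v y) : IsS hF h D π Z (x * y * x) := by
  rcases eq_or_ne (uh σ u v) 0 with h0 | h0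
  · exact E.conj_comm hZ hu hv h0 hx hy
  have hw := third_pt hF h hu hv
  obtain ⟨q, hq⟩ := E.exists_L hZ hw
  obtain ⟨l, m, c, a, hlm, hc, ha, hwe⟩ := E.two_zero hZ hw hij hi hj
  have hq' : IsL hF h D π Z (pv l m c) q := by
    rw [hwe] at hq; exact (E.isL_smul hZ (pv_pt hF h hlm hc) ha).1 hq
  have hS := E.conj_two hZ hlm hc hq' ⟨u, hu, hx⟩
  have hbr := congrArg π (E.adm_braid hu hv h0 hx.1 hy.1)
  simp only [map_mul, E.adm_map hx.1, E.adm_map hy.1] at hbr
  have e1 : π (q * x * q) = π y := by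
    rw [map_mul, map_mul, E.adm_map hq.1, E.adm_map hx.1, E.adm_map hy.1, ← tt_third hF h hu.2 hv.2]
    set a := tt hF h u
    set b := tt hF h v
    have ha2 : a * a = 1 := tt_sq hF h hu.2
    calc a * b * a * a * (a * b * a) = a * b * (a * a) * (a * b * a) := by group
      _ = a * b * (b * a * b) := by rw [ha2, mul_one, hbr]
      _ = a * (b * b) * a * b := by group
      _ = b := by rw [tt_sq hF h hv.2, mul_one, ha2, one_mul]
  have hyq : q * x * q = y := E.isS_unique hZ hS ⟨v, hv, hy⟩ e1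
  have hxq : uh σ u (third σ u v) ≠ 0 := by
    rw [third, uh_add_right, uh_smul_right, hu.2, mul_zero, add_zero]; exact h0
  rw [← hyq, ← E.adm_braid hu hw hxq hx.1 hq.1,
    show x * (x * q * x) * x = (x * x) * q * (x * x) by group, E.adm_sq hu hx.1, one_mul, mul_one]
  exact ⟨_, hw, hq⟩

theorem Ext.conj_hard {ρ : F} (hρ : ρ * ρ = ρ + 1) {x y : G}
    (hx : IsL hF h D π Z uStd x) (hy : IsL hF h D π Z (uTwo ρ) y) :
    IsS hF h D π Z (x * y * x) := by
  obtain ⟨hρ0, hρ1, hρ2, hρ3⟩ := omega_ne hF hρ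
  obtain ⟨hu, hv⟩ := std_pts hF h hρ
  have hw := third_pt hF h hu hv
  have huv : uh σ uStd (uTwo ρ) ≠ 0 := by
    have e : uh σ uStd (uTwo ρ) = ρ + 1 := by
      simp [uh_five hF h, uStd, uTwo, hρ, addF hF]
    rw [e]; exact hρ2
  obtain ⟨s, hs⟩ := E.exists_L hZ hw
  have h34 := pv_pt hF h (show (3 : Fin 5) ≠ 4 by decide) hρ0
  have h23 := pv_pt hF h (show (2 : Fin 5) ≠ 3 by decide) hρ2
  obtain ⟨p, hp⟩ := E.exists_L hZ h34
  obtain ⟨q, hq⟩ := E.exists_L hZ h23
  set g := p * q with hg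
  have hgπ : π g = gRot hF h ρ := by rw [hg, map_mul, E.adm_map hp.1, E.adm_map hq.1, gRot]
  have hgconj : ∀ t : G, IsS hF h D π Z t → IsS hF h D π Z (g * t * g⁻¹) := by
    intro t ht
    have h1 := E.conj_two hZ (by decide) hρ0 hp (E.conj_two hZ (by decide) hρ2 hq ht)
    rwa [hg, _root_.mul_inv_rev, E.adm_inv h34 hp.1, E.adm_inv h23 hq.1,
      show p * q * t * (q * p) = p * (q * t * q) * p by group]
  obtain ⟨f1, f2, f3⟩ := gRot_facts hF h hρ
  have hmove : ∀ (a b : Fin 5 → F) (r t : G), IsPt σ a → IsPt σ b → IsL hF h D π Z a r →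
      IsL hF h D π Z b t → tt hF h ((gRot hF h ρ).1.1 *ᵥ a) = tt hF h b → g * r * g⁻¹ = t := by
    intro a b r t ha hb hr ht he
    refine E.isS_unique hZ (hgconj r ⟨a, ha, hr⟩) ⟨b, hb, ht⟩ ?_
    rw [map_mul, map_mul, map_inv, hgπ, E.adm_map hr.1, tt_conj hF h _ ha.2, E.adm_map ht.1, he]
  have g1 : g * x * g⁻¹ = y := hmove _ _ x y hu hv hx hy (by rw [f1])
  have g2 : g * y * g⁻¹ = s := hmove _ _ y s hv hw hy hs (by rw [f2, tt_smul hF h hρ0 hw.2])
  have g3 : g * s * g⁻¹ = x := hmove _ _ s x hw hu hs hx (by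
    rw [← tt_smul hF h hρ0 (map_pt h _ hw).2, ← mulVec_smul, f3])
  have hA := E.adm_third hu hv hx.1 hy.1
  obtain ⟨d, hd, hde⟩ := E.lift _ hw
  set δ := s * (x * y * x) with hδ
  have hδm : δ ∈ wg D π (tt hF h (third σ uStd (uTwo ρ))) := by
    have h1 := mul_mem (E.adm_of hs.1 hd hde) (E.adm_of hA hd hde)
    have h2 : Commute d (d * s) := E.wg_fix hw hw hw.2 hd hde (E.adm_of hs.1 hd hde)
    rw [show d * s * (d * (x * y * x)) = d * s * d * (x * y * x) by group, ← h2.eq,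
      ← mul_assoc d d, E.dmul hd, one_mul] at h1
    exact h1
  have hsd : x * y * x = s * δ := by rw [hδ, ← mul_assoc, E.adm_sq hw hs.1, one_mul]
  have hb := E.adm_braid hu hv huv hx.1 hy.1
  have e1 : g * (x * y * x) * g⁻¹ = y * s * y := by
    rw [show g * (x * y * x) * g⁻¹ = (g * x * g⁻¹) * (g * y * g⁻¹) * (g * x * g⁻¹) by group, g1, g2]
  have e2 : g * (x * y * x) * g⁻¹ = x * (g * δ * g⁻¹) := by
    rw [hsd, ← g3]; group
  have hs' : s = x * y * x * δ := by
    rw [hsd, mul_assoc, E.ksq (E.wg_le _ hδm), mul_one]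
  have hy2 := E.adm_sq hv hy.1
  have e3 : y * s * y = x * (y * δ * y) := by
    rw [hs', hb, show y * (y * x * y * δ) * y = (y * y) * x * (y * δ * y) by group, hy2, one_mul]
  have hfix : g * δ * g⁻¹ = y * δ * y⁻¹ := by
    rw [E.adm_inv hv hy.1]
    exact mul_left_cancel (e2.symm.trans (e1.trans e3))
  have hd1 := E.hard hρ hgπ (E.adm_map hy.1) hδm hfix
  exact ⟨_, hw, by rw [hsd, hd1, mul_one]; exact hs⟩

theorem Ext.conj_std {x y : G} (hx : IsL hF h D π Z uStd x) (hyS : IsS hF h D π Z y) :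
    IsS hF h D π Z (x * y * x) := by
  obtain ⟨v, hv, hy⟩ := hyS
  obtain ⟨hu, -⟩ := std_pts hF h hZ.om
  have hswap : ∀ (i j : Fin 5) (c : F), i ≠ j → c ≠ 0 → uh σ uStd (pv i j c) = 0 →
      ∀ (w : Fin 5 → F) (z : G), IsPt σ w → IsL hF h D π Z w z →
      (∀ (w' : Fin 5 → F) (z' : G), IsPt σ w' → (∀ k, w' k =
        if k = i then σ c * w j else if k = j then c * w i else w k) → IsL hF h D π Z w' z' →
          IsS hF h D π Z (x * z' * x)) → IsS hF h D π Z (x * z * x) := by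
    intro i j c hij hc h0 w z hw hz H
    have hp := pv_pt hF h hij hc
    obtain ⟨p, hp'⟩ := E.exists_L hZ hp
    have hpx : Commute x p := E.adm_commute hu hp h0 hx.1 hp'.1
    have hp2 := E.adm_sq hp hp'.1
    have hS := E.conj_two hZ hij hc hp' ⟨w, hw, hz⟩
    have hwm := map_pt h (tt hF h (pv i j c)) hw
    obtain ⟨z', hz'⟩ := E.exists_L hZ hwm
    have he : p * z * p = z' := E.isS_unique hZ hS ⟨_, hwm, hz'⟩ (by
      rw [map_mul, map_mul, E.adm_map hp'.1, E.adm_map hz.1, E.adm_map hz'.1,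
        ← tt_conj hF h _ hw.2, tt_inv hF h hp.2])
    have h1 := E.conj_two hZ hij hc hp' (H _ z' hwm (fun k => pv_mulVec hF h hij hc w k) hz')
    rwa [← he, show p * (x * (p * z * p) * x) * p = (p * x * p) * z * (p * x * p) by group,
      show p * x * p = x by rw [← hpx.eq, mul_assoc, hp2, mul_one]] at h1
  have hr : ∀ (ρ e : F) (z : G), ρ * ρ = ρ + 1 → e ≠ 0 →
      IsPt σ ![1, 1, ρ, 0, e] → IsL hF h D π Z ![1, 1, ρ, 0, e] z → IsS hF h D π Z (x * z * x) := by
    have hstep : ∀ (ρ e : F) (z : G), IsPt σ ![1, 1, ρ, 0, e] →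
        IsL hF h D π Z ![1, 1, ρ, 0, e] z →
        (∀ z' : G, IsPt σ ![1, 1, ρ, 0, ω * e] → IsL hF h D π Z ![1, 1, ρ, 0, ω * e] z' →
          IsS hF h D π Z (x * z' * x)) → IsS hF h D π Z (x * z * x) := by
      intro ρ e z hw hz H
      obtain ⟨hω0, -, -, -⟩ := omega_ne hF hZ.om
      have hzx : Commute x (Z 4) := hx.2 4 rfl
      have hmv : (zf hF h ω 4).1.1 *ᵥ ![1, 1, ρ, 0, e] = ω • ![1, 1, ρ, 0, ω * e] := by
        rw [zf_mulVec hF h hZ.om]
        funext k
        fin_cases k <;> simp [← mul_assoc, hZ.om, add_mul]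
      have hconjS : ∀ (g : G), g = Z 4 ∨ g = (Z 4)⁻¹ → ∀ t, IsS hF h D π Z t →
          IsS hF h D π Z (g * t * g⁻¹) := by
        rintro g hg t ⟨a, ha, hta⟩
        have hgc : ∀ i, Commute g (Z i) := fun i => by
          rcases hg with rfl | rfl
          · exact hZ.comm 4 i
          · exact (hZ.comm 4 i).inv_left
        refine ⟨(π g).1.1 *ᵥ a, map_pt h _ ha, ?_⟩
        obtain ⟨i, hi⟩ := exists_zero hF h ha.2
        refine E.isL_of_one hZ (map_pt h _ ha) ?_ (i := i) ?_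
          (((hgc i).mul_left (hta.2 i hi)).mul_left (hgc i).inv_left)
        · rw [← tt_conj hF h _ ha.2]; exact E.adm_conj g hta.1
        · have h1 : ∀ b : Fin 5 → F, ((zf hF h ω 4).1.1 *ᵥ b) i =
              ω * b i + b 4 * (Pi.single 4 1 : Fin 5 → F) i := fun b => by
            rw [zf_mulVec hF h hZ.om]; simp
          have h2 : ∀ b : Fin 5 → F, b i = 0 → ((zf hF h ω 4).1.1 *ᵥ b) i = 0 := fun b hb => by
            rw [h1, hb]
            rcases eq_or_ne i 4 with rfl | hi4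
            · simp [hb]
            · simp [hi4]
          rcases hg with rfl | rfl
          · rw [hZ.map]; exact h2 a hi
          · rw [map_inv, hZ.map]
            set b := ((zf hF h ω 4)⁻¹).1.1 *ᵥ a
            have hb : ((zf hF h ω 4).1.1 *ᵥ b) i = 0 := by
              rw [← su_mul_mulVec, mul_inv_cancel, su_one_mulVec]; exact hi
            rw [h1] at hb
            rcases eq_or_ne i 4 with rfl | hi4
            · simp only [Pi.single_eq_same, mul_one] at hb
              have : (ω + 1) * b 4 = 0 := by linear_combination hb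
              exact (mul_eq_zero.1 this).resolve_left (omega_ne hF hZ.om).2.2.1
            · simp [hi4] at hb
              exact hb.resolve_left hω0
      have hS := hconjS _ (Or.inl rfl) z ⟨_, hw, hz⟩
      have hwm : IsPt σ ![1, 1, ρ, 0, ω * e] := by
        have := smul_pt (c := ω⁻¹) (inv_ne_zero hω0) (map_pt h (zf hF h ω 4) hw)
        rwa [hmv, smul_smul, inv_mul_cancel₀ hω0, one_smul] at this
      obtain ⟨z', hz'⟩ := E.exists_L hZ hwm
      have he : Z 4 * z * (Z 4)⁻¹ = z' := E.isS_unique hZ hS ⟨_, hwm, hz'⟩ (by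
        rw [map_mul, map_mul, map_inv, hZ.map, E.adm_map hz.1, tt_conj hF h _ hw.2, hmv,
          E.adm_map hz'.1, tt_smul hF h hω0 hwm.2])
      have h1 := hconjS _ (Or.inr rfl) _ (H z' hwm hz')
      rwa [← he, inv_inv,
        show (Z 4)⁻¹ * (x * (Z 4 * z * (Z 4)⁻¹) * x) * Z 4 =
          ((Z 4)⁻¹ * x * Z 4) * z * ((Z 4)⁻¹ * x * Z 4) by group,
        mul_assoc (Z 4)⁻¹ x (Z 4), hzx.eq, inv_mul_cancel_left] at h1
    intro ρ e z hρ he hw hz
    have hone : ∀ z : G, IsL hF h D π Z ![1, 1, ρ, 0, 1] z → IsS hF h D π Z (x * z * x) :=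
      fun z hz => E.conj_hard hZ hρ hx (by exact hz)
    rcases four_cases hF h hZ.om (x := e) with rfl | rfl | rfl | rfl
    · exact absurd rfl he
    · exact hone z hz
    · refine hstep ρ _ z hw hz fun z' hw' hz' => hstep ρ _ z' hw' hz' fun z'' _ hz'' => hone z'' ?_
      rwa [hZ.om, mul_add, hZ.om, mul_one, add_comm e 1, add_assoc, addF hF, add_zero] at hz''
    · refine hstep ρ _ z hw hz fun z' _ hz' => hone z' ?_
      rwa [mul_add, hZ.om, mul_one, add_comm ω 1, add_assoc, addF hF, add_zero] at hz'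
  -- normalised: zero at the fourth place, equal first two entries
  have hn2 : ∀ (w : Fin 5 → F) (z : G), IsPt σ w → IsL hF h D π Z w z → w 3 = 0 → w 0 = w 1 →
      IsS hF h D π Z (x * z * x) := by
    intro w z hw hz h3 h01
    by_cases h0 : w 0 = 0
    · exact E.conj_zeros hZ hu hw (show (3 : Fin 5) ≠ 0 by decide) h3 h0 hx hz
    by_cases h4 : w 4 = 0
    · exact E.conj_share hZ hu hw (i := 4) rfl h4 hx hz
    by_cases h2 : w 2 = 0
    · exact E.conj_zeros hZ hu hw (show (3 : Fin 5) ≠ 2 by decide) h3 h2 hx hz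
    have hsc : w = w 0 • ![1, 1, w 2 / w 0, 0, w 4 / w 0] := by
      funext k
      fin_cases k <;> simp [h3, h01.symm, mul_div_cancel₀ _ h0]
    set ρ := w 2 / w 0
    set e := w 4 / w 0
    have hw' : IsPt σ ![1, 1, ρ, 0, e] := by
      have := smul_pt (c := (w 0)⁻¹) (inv_ne_zero h0) hw
      rwa [hsc, smul_smul, show (w 0 • ![1, 1, ρ, 0, e]) 0 = w 0 by simp, inv_mul_cancel₀ h0,
        one_smul] at this
    have hz' : IsL hF h D π Z ![1, 1, ρ, 0, e] z := by
      rw [hsc] at hz; exact (E.isL_smul hZ hw' h0).1 hz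
    have he : e ≠ 0 := div_ne_zero h4 h0
    rcases four_cases hF h hZ.om (x := ρ) with hr0 | hr1 | hr1 | hr1
    · exact absurd hr0 (div_ne_zero h2 h0)
    · refine E.conj_third_two hZ hu hw' (i := 0) (j := 1) (by decide) ?_ ?_ hx hz' <;>
        simp [third, uh_five hF h, uStd, hr1, addF hF, add_assoc, add_self_left hF]
    · exact hr ρ e z (by rw [hr1, hZ.om]) he hw' hz'
    · refine hr ρ e z ?_ he hw' hz'
      rw [hr1]; linear_combination hZ.om + ω * two_eq_zero hF
  have hn3 : ∀ (w : Fin 5 → F) (z : G), IsPt σ w → IsL hF h D π Z w z → w 3 = 0 →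
      IsS hF h D π Z (x * z * x) := by
    intro w z hw hz h3
    have hperp : ∀ i j : Fin 5, i ≠ j → i ≠ 4 → j ≠ 4 → uh σ uStd (pv i j (1 : F)) = 0 := by
      intro i j _ hi hj
      simp only [pv, uh_add_right, uh_single_right, map_one, mul_one]
      fin_cases i <;> fin_cases j <;> simp_all [uStd, addF hF]
    by_cases e01 : w 0 = w 1
    · exact hn2 w z hw hz h3 e01
    by_cases e02 : w 0 = w 2
    · refine hswap 1 2 1 (by decide) one_ne_zero (hperp 1 2 (by decide) (by decide) (by decide)) w z hw hz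
        fun w' z' hw' hk hz' => hn2 w' z' hw' hz' ?_ ?_ <;> simp [hk, h3, e02]
    by_cases e12 : w 1 = w 2
    · refine hswap 0 2 1 (by decide) one_ne_zero (hperp 0 2 (by decide) (by decide) (by decide)) w z hw hz
        fun w' z' hw' hk hz' => hn2 w' z' hw' hz' ?_ ?_ <;> simp [hk, h3, e12]
    by_cases hz0 : w 0 = 0
    · exact E.conj_zeros hZ hu hw (show (3 : Fin 5) ≠ 0 by decide) h3 hz0 hx hz
    by_cases hz1 : w 1 = 0
    · exact E.conj_zeros hZ hu hw (show (3 : Fin 5) ≠ 1 by decide) h3 hz1 hx hz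
    by_cases hz2 : w 2 = 0
    · exact E.conj_zeros hZ hu hw (show (3 : Fin 5) ≠ 2 by decide) h3 hz2 hx hz
    refine E.conj_comm hZ hu hw ?_ hx hz
    refine h.swap_zero ?_
    simp only [uh_five hF h, uStd, h3]
    obtain ⟨ω0, ω1, ω2, ω3⟩ := omega_ne hF hZ.om
    rcases four_cases hF h hZ.om (x := w 0) with a | a | a | a <;>
      rcases four_cases hF h hZ.om (x := w 1) with b | b | b | b <;>
        rcases four_cases hF h hZ.om (x := w 2) with c | c | c | c <;>
          simp_all [addF hF, add_comm, add_left_comm, add_self_left hF]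
  by_cases h4 : v 4 = 0
  · exact E.conj_share hZ hu hv (i := 4) rfl h4 hx hy
  obtain ⟨j, hj⟩ := exists_zero hF h hv.2
  have hj4 : j ≠ 4 := fun e => h4 (e ▸ hj)
  rcases eq_or_ne j 3 with rfl | hj3
  · exact hn3 v y hv hy hj
  · refine hswap j 3 1 hj3 one_ne_zero ?_ v y hv hy fun w' z' hw' hk hz' => hn3 w' z' hw' hz' ?_
    · simp only [pv, uh_add_right, uh_single_right, map_one, mul_one]
      fin_cases j <;> simp_all [uStd, addF hF]
    · rw [hk, if_neg (Ne.symm hj3), if_pos rfl, hj, mul_zero]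

/-- The kernel has a complement. -/
theorem Ext.complement : ∃ K : Subgroup G, π.ker.IsComplement' K := by
  obtain ⟨hu, -⟩ := std_pts hF h hZ.om
  obtain ⟨x₁, hx₁⟩ := E.exists_L hZ hu
  set S : Set G := {x | ∃ i j c, i ≠ j ∧ c ≠ 0 ∧ IsL hF h D π Z (pv i j c) x} ∪ {x₁} with hS
  set K := Subgroup.closure S with hK
  have hSsq : ∀ x ∈ S, x * x = 1 := by
    rintro x (⟨i, j, c, hij, hc, hx⟩ | rfl)
    · exact E.adm_sq (pv_pt hF h hij hc) hx.1
    · exact E.adm_sq hu hx₁.1
  have hinv : ∀ k ∈ K, ∀ y, IsS hF h D π Z y → IsS hF h D π Z (k * y * k⁻¹) := by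
    intro k hk
    have h1 : ∀ x ∈ S, ∀ y, IsS hF h D π Z y → IsS hF h D π Z (x * y * x) := by
      rintro x (⟨i, j, c, hij, hc, hx⟩ | rfl) y hy
      · exact E.conj_two hZ hij hc hx hy
      · exact E.conj_std hZ hx₁ hy
    have hb : ∀ k ∈ K, (∀ y, IsS hF h D π Z y → IsS hF h D π Z (k * y * k⁻¹)) ∧
        (∀ y, IsS hF h D π Z y → IsS hF h D π Z (k⁻¹ * y * k)) := by
      intro k hk
      induction hk using Subgroup.closure_induction with
      | mem x hx =>
          have hi : x⁻¹ = x := inv_eq_of_mul_eq_one_right (hSsq x hx)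
          exact ⟨fun y hy => by rw [hi]; exact h1 x hx y hy, fun y hy => by rw [hi]; exact h1 x hx y hy⟩
      | one => exact ⟨fun y hy => by simpa using hy, fun y hy => by simpa using hy⟩
      | mul a b _ _ iha ihb =>
          exact ⟨fun y hy => by simpa [mul_assoc] using iha.1 _ (ihb.1 y hy),
            fun y hy => by simpa [mul_assoc] using ihb.2 _ (iha.2 y hy)⟩
      | inv a _ iha => exact ⟨fun y hy => by simpa using iha.2 y hy, fun y hy => by simpa using iha.1 y hy⟩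
    exact (hb k hk).1
  have hdisj : ∀ k ∈ K, k ∈ π.ker → k = 1 := by
    intro k hk hkπ
    letI := E.addComm
    letI := E.act
    have h0 := E.tmod.cen (Additive.ofMul ⟨k, hkπ⟩) fun w hw => by
      obtain ⟨y, hy⟩ := E.exists_L hZ hw
      have he : k * y * k⁻¹ = y := E.isS_unique hZ (hinv k hk y ⟨w, hw, hy⟩) ⟨w, hw, hy⟩
        (by simp [MonoidHom.mem_ker.1 hkπ])
      refine Additive.toMul.injective (Subtype.ext ?_)
      rw [← E.adm_map hy.1, E.act_coe]
      show y * k * y⁻¹ = k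
      rw [← mul_inv_eq_iff_eq_mul.1 he, mul_inv_cancel_right]
    simpa using congrArg (fun x : Additive π.ker => (x.toMul : G)) h0
  -- surjectivity
  have hpv : ∀ i j : Fin 5, i ≠ j → ∀ c : F, c ≠ 0 → tt hF h (pv i j c) ∈ K.map π := by
    intro i j hij c hc
    obtain ⟨y, hy⟩ := E.exists_L hZ (pv_pt hF h hij hc)
    exact ⟨y, Subgroup.subset_closure (Or.inl ⟨i, j, c, hij, hc, hy⟩), E.adm_map hy.1⟩
  have hstd : tt hF h uStd ∈ K.map π :=
    ⟨x₁, Subgroup.subset_closure (Or.inr rfl), E.adm_map hx₁.1⟩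
  have hcl : ∀ g ∈ K.map π, ∀ w : Fin 5 → F, IsPt σ w →
      tt hF h (g.1.1 *ᵥ w) ∈ K.map π → tt hF h w ∈ K.map π := by
    intro g hg w hw hgw
    rw [← tt_conj hF h g hw.2] at hgw
    have h3 := mul_mem (mul_mem (inv_mem hg) hgw) hg
    simpa [mul_assoc] using h3
  have hall : ∀ w : Fin 5 → F, IsPt σ w → tt hF h w ∈ K.map π := by
    have hzero : ∀ (w : Fin 5 → F), IsPt σ w → ∀ i j, i ≠ j → w i = 0 → w j = 0 →
        tt hF h w ∈ K.map π := by
      intro w hw i j hij hi hj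
      obtain ⟨l, m, c, a, hlm, hc, ha, rfl⟩ := E.two_zero hZ hw hij hi hj
      rw [tt_smul hF h ha (pv_pt hF h hlm hc).2]; exact hpv l m hlm c hc
    have hfix : ∀ (m : ℕ) (w : Fin 5 → F), IsPt σ w → w 4 = 0 →
        (∀ k : Fin 5, m ≤ (k : ℕ) → k ≠ 4 → w k = 1) → tt hF h w ∈ K.map π := by
      intro m
      induction m with
      | zero =>
          intro w hw h4 hk
          rw [show w = uStd from funext fun k => by
            fin_cases k <;> simp [uStd] <;> first | exact h4 | exact hk _ (Nat.zero_le _) (by decide)]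
          exact hstd
      | succ m ih =>
          intro w hw h4 hk
          by_cases hm : m < 4
          · set i : Fin 5 := ⟨m, by omega⟩ with hi
            have hi4 : i ≠ 4 := fun e => by
              have := congrArg Fin.val e; simp [hi] at this; omega
            by_cases h0 : w i = 0
            · exact hzero w hw i 4 hi4 h0 h4
            refine hcl _ (mul_mem (hpv i 4 hi4 (w i) h0) (hpv i 4 hi4 1 one_ne_zero)) w hw
              (ih _ (map_pt h _ hw) ?_ fun k hk' hk4 => ?_)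
            · rw [su_mul_mulVec, pv_mulVec hF h hi4 h0]
              simp [pv_mulVec hF h hi4 one_ne_zero, hi4.symm, h4]
            · simp only [su_mul_mulVec, pv_mulVec hF h hi4 h0, pv_mulVec hF h hi4 one_ne_zero]
              by_cases hki : k = i
              · subst hki
                simp [hi4, hi4.symm]
                rw [mul_comm]; exact norm_eq_one hF h h0
              · simp [hki, hk4]
                refine hk k ?_ hk4
                rcases Nat.eq_or_lt_of_le hk' with e | e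
                · exact absurd (Fin.ext e.symm) hki
                · omega
          · refine ih w hw h4 fun k hk' hk4 => ?_
            exfalso
            have : (k : ℕ) < 4 := by
              rcases Nat.lt_or_ge (k : ℕ) 4 with e | e
              · exact e
              · exact absurd (Fin.ext (by have := k.2; simp; omega)) hk4
            omega
    have h4all : ∀ w : Fin 5 → F, IsPt σ w → w 4 = 0 → tt hF h w ∈ K.map π := fun w hw h4 =>
      hfix 4 w hw h4 fun k hk hk4 => absurd (Fin.ext (by have := k.2; simp; omega)) hk4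
    intro w hw
    by_cases h4 : w 4 = 0
    · exact h4all w hw h4
    obtain ⟨j, hj⟩ := exists_zero hF h hw.2
    have hj4 : j ≠ 4 := fun e => h4 (e ▸ hj)
    exact hcl _ (hpv j 4 hj4 1 one_ne_zero) w hw (h4all _ (map_pt h _ hw) (by
      simp [pv_mulVec hF h hj4 one_ne_zero, hj4.symm, hj]))
  have htop : K.map π = ⊤ := by
    refine top_le_iff.1 ?_
    rw [← Subgroup.map_top_of_surjective π E.surj, ← E.cls.gen, MonoidHom.map_closure,
      Subgroup.closure_le]
    rintro _ ⟨d, hd, rfl⟩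
    obtain ⟨w, hw, he⟩ := E.image d hd
    rw [he]; exact hall w hw
  refine ⟨K, Subgroup.isComplement'_of_disjoint_and_mul_eq_univ ?_ ?_⟩
  · rw [disjoint_iff, eq_bot_iff]
    exact fun k hk => hdisj k hk.2 hk.1
  · refine Set.eq_univ_of_forall fun g => ?_
    obtain ⟨k, hk, he⟩ : π g ∈ K.map π := by rw [htop]; trivial
    exact ⟨g * k⁻¹, by simp [MonoidHom.mem_ker, he], k, hk, by simp⟩

end CfsgLib.CharsMore.SUFive
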