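import Cfsg.Agent.Lib.CharsMore.SUFive.Lift
import Cfsg.Agent.Lib.CharsMore.TwoRadical.Quot

/-!
A group generated by 3-transpositions with trivial centre over SU(5,2) splits over its 2-radical.
-/

set_option autoImplicit false
set_option linter.unusedSectionVars false
set_option linter.style.haveILetI false

namespace CfsgLib.CharsMore.SUFive

open Cfsg CfsgLib.Classical.Unitary CfsgLib.CharsMore.TwoRadical CfsgLib.Involutions
  CfsgLib.ThreeTransp

universe u

variable {G : Type u} [Group G] [Finite G] {D : Set G}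

theorem complement_of_SU (hD : IsThreeTranspositionClass D) (hZ : Subgroup.center G = ⊥)
    {F : Type} [Field F] {σ : F →+* F} (hF : Nat.card F = 2 ^ 2) (h : UFrob σ 2)
    (π : G →* Cfsg.SU 5 F 2) (hsurj : Function.Surjective π) (hker : IsPGroup 2 π.ker)
    (helem : IsElementaryAbelian 2 π.ker) :
    ∃ K : Subgroup G, π.ker.IsComplement' K := by
  haveI : Finite (Cfsg.SU 5 F 2) := Finite.of_surjective π hsurj
  have hsimple := isSimple_SU (n := 5) hF (by norm_num) (by norm_num)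
  have hu := pv_pt hF h (show (0 : Fin 5) ≠ 1 by decide) (one_ne_zero (α := F))
  have hu' := pv_pt hF h (show (1 : Fin 5) ≠ 2 by decide) (one_ne_zero (α := F))
  have hna : ∃ x y : Cfsg.SU 5 F 2, x * y ≠ y * x :=
    ⟨tt hF h (pv 0 1 1), tt hF h (pv 1 2 1), fun hc => by
      have := (tt_commute_iff hF h hu hu').1 hc
      simp [uh_five hF h, pv] at this⟩
  have h2 : ∃ a ∈ D, ∃ b ∈ D, a ≠ b := by
    by_contra hall
    push Not at hall
    obtain ⟨d, hd, -⟩ := hD.2.1
    have hle : (⊤ : Subgroup G) ≤ Subgroup.zpowers d := by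
      rw [← hD.2.2, Subgroup.closure_le]
      exact fun y hy => (hall y hy d hd) ▸ Subgroup.mem_zpowers _
    obtain ⟨x, y, hxy⟩ := hna
    obtain ⟨x, rfl⟩ := hsurj x
    obtain ⟨y, rfl⟩ := hsurj y
    obtain ⟨i, rfl⟩ := Subgroup.mem_zpowers_iff.1 (hle (Subgroup.mem_top x))
    obtain ⟨j, rfl⟩ := Subgroup.mem_zpowers_iff.1 (hle (Subgroup.mem_top y))
    exact hxy (((Commute.zpow_zpow_self d i j)).map π).eq
  have hC := tclass_of_class hD h2
  have himage : ∀ d ∈ D, ∃ u, IsPt σ u ∧ π d = tt hF h u := by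
    intro d hd
    obtain ⟨u, hu, hu0, hgu⟩ := eq_tv_of_three hF h
      (g := π d) (by rw [← map_mul, ts_mul_self hC.ts hd, map_one])
      (image_ne_one hC hker hsurj hsimple hna hd) (fun k => by
        obtain ⟨g, rfl⟩ := hsurj k
        rw [← map_inv, ← map_mul, ← map_mul, ← map_mul, ← map_pow, ← map_pow]
        exact (hC.ts.2 d hd _ (hC.conj g d hd)).imp (fun e => by rw [e, map_one])
          fun e => by rw [e, map_one])
    exact ⟨u, ⟨hu0, hu⟩, by rw [hgu, tt_eq hF h hu]⟩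
  have hlift : ∀ v, IsPt σ v → ∃ d ∈ D, π d = tt hF h v := by
    intro v hv
    obtain ⟨d, hd, -⟩ := hC.two
    obtain ⟨u, hu, hde⟩ := himage d hd
    obtain ⟨k, hk⟩ := isConj_iff.1 (isConj_tv hF h hu.2 hv.2 hu.1 hv.1)
    obtain ⟨g, rfl⟩ := hsurj k
    refine ⟨g * d * g⁻¹, hC.conj g d hd, ?_⟩
    rw [map_mul, map_mul, map_inv, hde, tt_eq hF h hu.2, hk, tt_eq hF h hv.2]
  have E : Ext hF h D π := ⟨hC, hker, hsurj, hsimple, hna, hZ, helem, hlift, himage⟩
  obtain ⟨ω, hω⟩ := omega_exists hF h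
  obtain ⟨Z, hZf⟩ := E.exists_frame hω
  exact E.complement hZf

end CfsgLib.CharsMore.SUFive
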