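import Cfsg.Agent.Lib.CharsMore.SUFive.Vec
import Mathlib.Algebra.Group.Subgroup.Basic

/-!
Transvection modules of SU(5,2): frame elements act without fixed points.
-/

set_option autoImplicit false
set_option linter.unusedSectionVars false
set_option linter.style.haveILetI false

namespace CfsgLib.CharsMore.SUFive

open Cfsg CfsgLib.Classical.Unitary CfsgLib.CharsMore.TwoRadical
open Matrix

variable {F : Type} [Field F] {σ : F →+* F}
variable {hF : Nat.card F = 2 ^ 2} {h : UFrob σ 2}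

universe u
variable {V : Type u} [AddCommGroup V] [DistribMulAction (Cfsg.SU 5 F 2) V]

/-- A module with a subgroup attached to each transvection. -/
structure TMod (hF : Nat.card F = 2 ^ 2) (h : UFrob σ 2) (W : Cfsg.SU 5 F 2 → AddSubgroup V) :
    Prop where
  two : ∀ v : V, v + v = 0
  conj : ∀ (g t : Cfsg.SU 5 F 2) (v : V), v ∈ W t → g • v ∈ W (g * t * g⁻¹)
  fix : ∀ u u' : Fin 5 → F, IsPt σ u → IsPt σ u' → uh σ u u' = 0 →
    ∀ v ∈ W (tt hF h u), tt hF h u' • v = v
  step : ∀ u : Fin 5 → F, IsPt σ u → ∀ v : V, tt hF h u • v + v ∈ W (tt hF h u)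
  disj : ∀ u u' : Fin 5 → F, IsPt σ u → IsPt σ u' → uh σ u u' ≠ 0 →
    ∀ v ∈ W (tt hF h u), v ∈ W (tt hF h u') → v = 0
  cen : ∀ v : V, (∀ u : Fin 5 → F, IsPt σ u → tt hF h u • v = v) → v = 0

variable {W : Cfsg.SU 5 F 2 → AddSubgroup V} (M : TMod hF h W)
include M

theorem TMod.eq_of_add {a b : V} (e : a + b = 0) : a = b := by
  rw [← add_zero a, ← M.two b, ← add_assoc, e, zero_add]

theorem TMod.conj_tt (g : Cfsg.SU 5 F 2) {u : Fin 5 → F} (hu : IsPt σ u) {v : V}
    (hv : v ∈ W (tt hF h u)) : g • v ∈ W (tt hF h (g.1.1 *ᵥ u)) := by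
  have := M.conj g _ v hv
  rwa [tt_conj hF h g hu.2] at this

theorem TMod.tt_act {u v : Fin 5 → F} (hu : IsPt σ u) (hv : IsPt σ v) {c : V}
    (hc : c ∈ W (tt hF h v)) : tt hF h u • c ∈ W (tt hF h (third σ u v)) := by
  have := M.conj_tt (tt hF h u) hv hc
  rwa [tt_mulVec hF h hu.2] at this

/-- The relation on a line. -/
theorem TMod.line {u v : Fin 5 → F} (hu : IsPt σ u) (hv : IsPt σ v) (huv : uh σ u v ≠ 0) {c : V}
    (hc : c ∈ W (tt hF h u)) :
    tt hF h v • c = c + (tt hF h u * tt hF h v) • c ∧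
      (tt hF h u * tt hF h v) • c ∈ W (tt hF h v) ∧
      (tt hF h u * tt hF h v) • (tt hF h u * tt hF h v) • c + (tt hF h u * tt hF h v) • c + c = 0 := by
  have hw := third_pt hF h hv hu
  have huw : uh σ u (third σ v u) ≠ 0 := by
    rw [third, uh_add_right, hu.2, zero_add, uh_smul_right]
    exact mul_ne_zero ((map_ne_zero σ).2 huv) huv
  set x := tt hF h v • c + c with hx
  have hxm : x ∈ W (tt hF h v) := M.step v hv c
  have htc : tt hF h v • c = c + x := by rw [hx, add_comm _ c, ← add_assoc, M.two, zero_add]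
  set y := tt hF h u • x + x with hy
  have hym : y ∈ W (tt hF h u) := M.step u hu x
  have h1 : c + x ∈ W (tt hF h (third σ v u)) := by rw [← htc]; exact M.tt_act hv hu hc
  have e3 : tt hF h (third σ u v) = tt hF h (third σ v u) := by
    have hne : uh σ v u ≠ 0 := fun e => huv (h.swap_zero e)
    rw [← tt_smul hF h (u := third σ v u) (c := uh σ v u) hne hw.2]
    congr 1
    rw [third, third, smul_add, smul_smul, ← h.symm u v, mul_comm, norm_eq_one hF h huv, one_smul,
      add_comm]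
  have h2 : x + y ∈ W (tt hF h (third σ v u)) := by
    have := M.tt_act hu hv hxm
    rw [e3, show tt hF h u • x = x + y by rw [hy, add_comm _ x, ← add_assoc, M.two, zero_add]] at this
    exact this
  have hcy : c + y = 0 := by
    refine M.disj u (third σ v u) hu hw huw _ (add_mem hc hym) ?_
    have := add_mem h1 h2
    rwa [show c + x + (x + y) = c + y + (x + x) by abel, M.two, add_zero] at this
  have hyc : y = c := (M.eq_of_add hcy).symm
  have hux : tt hF h u • x = x + c := by rw [← hyc, hy, add_comm _ x, ← add_assoc, M.two, zero_add]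
  have hr : (tt hF h u * tt hF h v) • c = x := by
    rw [mul_smul, htc, smul_add, M.fix u u hu hu hu.2 c hc, hux, add_comm x c, ← add_assoc, M.two,
      zero_add]
  refine ⟨by rw [hr, htc], by rw [hr]; exact hxm, ?_⟩
  rw [hr, mul_smul, M.fix v v hv hv hv.2 x hxm, hux, show x + c + x + c = (x + x) + (c + c) by abel,
    M.two, M.two, add_zero]

theorem TMod.nine {ω : F} (hω : ω * ω = ω + 1) {c : V}
    (hc : c ∈ W (tt hF h (pv 0 1 1)))
    (hz : zLast hF h ω • c = c) : c = 0 := by
  obtain ⟨hω0, hω1, hω2, hω3⟩ := omega_ne hF hω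
  set A := tt hF h (pv 0 1 1)
  have hA := pv_pt hF h (show (0 : Fin 5) ≠ 1 by decide) (one_ne_zero (α := F))
  have hp : ∀ {a b : Fin 5}, a ≠ b → ∀ {d : F}, d ≠ 0 → IsPt σ (pv a b d) :=
    fun hab _ hd => pv_pt hF h hab hd
  have hL : ∀ v : Fin 5 → F, IsPt σ v → uh σ (pv 0 1 (1 : F)) v ≠ 0 →
      (A * tt hF h v) • (A * tt hF h v) • c + (A * tt hF h v) • c + c = 0 :=
    fun v hv hne => (M.line hA hv hne hc).2.2
  set a := A * tt hF h (pv 0 1 ω) with ha
  set b := A * tt hF h (pv 1 2 1) with hb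
  set p := zLast hF h ω * tt hF h ![0, 0, 0, 1, ω] * tt hF h ![0, 0, 0, 1, 1] with hpdef
  have hP1 : IsPt σ ![0, 0, 0, 1, ω] := by
    convert hp (show (3 : Fin 5) ≠ 4 by decide) hω0 using 1
    funext k; fin_cases k <;> simp [pv]
  have hP2 : IsPt σ ![0, 0, 0, 1, 1] := by
    convert hp (show (3 : Fin 5) ≠ 4 by decide) (one_ne_zero (α := F)) using 1
    funext k; fin_cases k <;> simp [pv]
  have hpc : p • c = c := by
    rw [hpdef, mul_smul, mul_smul,
      M.fix _ _ hA hP2 (by simp [uh_five hF h, pv]) c hc,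
      M.fix _ _ hA hP1 (by simp [uh_five hF h, pv]) c hc, hz]
  have hppc : p • p • c = c := by rw [hpc, hpc]
  -- group identities
  have hωl : ∀ y, ω * (ω * y) = ω * y + y := fun y => by rw [← mul_assoc, hω, add_mul, one_mul]
  have h01 : ∀ d : F, d ≠ 0 → ∀ x : Fin 5 → F,
      (tt hF h (pv 0 1 d)).1.1 *ᵥ x = ![σ d * x 1, d * x 0, x 2, x 3, x 4] := fun d hd x => by
    funext k; rw [pv_mulVec hF h (by decide) hd]; fin_cases k <;> simp
  have h12 : ∀ d : F, d ≠ 0 → ∀ x : Fin 5 → F,
      (tt hF h (pv 1 2 d)).1.1 *ᵥ x = ![x 0, σ d * x 2, d * x 1, x 3, x 4] := fun d hd x => by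
    funext k; rw [pv_mulVec hF h (by decide) hd]; fin_cases k <;> simp
  have hpx : ∀ x : Fin 5 → F, p.1.1 *ᵥ x = ![ω * x 0, ω * x 1, ω * x 2, x 3, x 4] := fun x => by
    have e : ∀ d : F, d ≠ 0 → ∀ y : Fin 5 → F,
        (tt hF h ![0, 0, 0, 1, d]).1.1 *ᵥ y = ![y 0, y 1, y 2, σ d * y 4, d * y 3] := fun d hd y => by
      rw [show ![0, 0, 0, 1, d] = pv 3 4 d by funext k; fin_cases k <;> simp [pv]]
      funext k; rw [pv_mulVec hF h (by decide) hd]; fin_cases k <;> simp
    rw [hpdef, su_mul_mulVec, su_mul_mulVec, e 1 one_ne_zero, e ω hω0, zLast_mulVec hF h hω]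
    funext k; fin_cases k <;> simp [sigma_mul hF h, hω, hωl, mul_add, add_mul, mul_comm, addF hF,
      add_comm, add_left_comm, add_self_left hF]
  have key : (A * tt hF h (pv 1 2 ω)) = a * b * p ∧
      (A * tt hF h (pv 1 2 (ω + 1))) = a * a * b * (p * p) ∧ b * a = a * b * (p * p) ∧
      p * a = a * p ∧ p * b = b * p := by
    refine ⟨?_, ?_, ?_, ?_, ?_⟩ <;> refine su_ext fun x => ?_ <;>
      simp only [ha, hb, A, su_mul_mulVec, h01 1 one_ne_zero, h01 ω hω0, h12 1 one_ne_zero,
        h12 ω hω0, h12 (ω + 1) hω2, hpx, Matrix.cons_val] <;>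
      funext k <;> fin_cases k <;>
      simp [sigma_mul hF h, hω, hωl, mul_add, add_mul, mul_comm, mul_left_comm, addF hF, add_comm,
        add_left_comm, add_self_left hF]
  obtain ⟨k2, k3, hba, hpa, hpb⟩ := key
  have e0 : a • a • c + a • c + c = 0 := hL _ (hp (by decide) hω0) (by
    rw [uh_five hF h]; simp [pv, hω, addF hF, add_comm, add_left_comm, hω0])
  have e1 : b • b • c + b • c + c = 0 := hL _ (hp (by decide) one_ne_zero) (by
    rw [uh_five hF h]; simp [pv])
  have e2' := hL _ (hp (show (1 : Fin 5) ≠ 2 by decide) hω0) (by rw [uh_five hF h]; simp [pv])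
  have e3' := hL _ (hp (show (1 : Fin 5) ≠ 2 by decide) hω2) (by rw [uh_five hF h]; simp [pv])
  rw [k2] at e2'
  rw [k3] at e3'
  have ea : a * a * a = 1 := by
    refine su_ext fun y => funext fun k => ?_
    simp only [ha, A, su_mul_mulVec, su_one_mulVec, h01 1 one_ne_zero, h01 ω hω0, Matrix.cons_val]
    fin_cases k <;> simp [sigma_mul hF h, hω, hωl, mul_add, add_mul, mul_left_comm, addF hF,
      add_comm, add_left_comm, add_self_left hF]
  clear_value a b p
  have e4 : ∀ x : V, a • a • a • x = x := fun x => by rw [← mul_smul, ← mul_smul, ea, one_smul]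
  -- the orbit
  have hba' : ∀ x : V, p • x = x → b • a • x = a • b • x := fun x hx => by
    rw [← mul_smul, hba, mul_smul, mul_smul, mul_smul, hx, hx]
  have hpav : ∀ x : V, p • x = x → p • a • x = a • x := fun x hx => by
    rw [← mul_smul, hpa, mul_smul, hx]
  have hpbv : ∀ x : V, p • x = x → p • b • x = b • x := fun x hx => by
    rw [← mul_smul, hpb, mul_smul, hx]
  have e2 : a • a • b • b • c + a • b • c + c = 0 := by
    simp only [mul_smul, hpc] at e2'
    rw [hpav _ (hpbv _ hpc), hba' _ (hpbv _ hpc)] at e2'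
    exact e2'
  have e3 : a • a • a • a • b • b • c + a • a • b • c + c = 0 := by
    simp only [mul_smul, hpc] at e3'
    rw [hpav _ (hpav _ (hpbv _ hpc)), hpav _ (hpav _ (hpbv _ hpc)), hba' _ (hpav _ (hpbv _ hpc)),
      hba' _ (hpbv _ hpc)] at e3'
    exact e3'
  rw [e4] at e3
  have f1 : a • a • b • c + a • b • c + b • c = 0 := by
    have := congrArg (fun x => b • x) e0
    simp only [smul_add, smul_zero] at this
    rwa [hba' _ (hpav _ hpc), hba' _ hpc] at this
  have f2 : a • a • b • b • c + a • b • b • c + b • b • c = 0 := by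
    have := congrArg (fun x => b • x) f1
    simp only [smul_add, smul_zero] at this
    rwa [hba' _ (hpav _ (hpbv _ hpc)), hba' _ (hpbv _ hpc)] at this
  have t1 : a • a • c + a • c + c + (b • b • c + b • c + c) +
      (a • a • b • b • c + a • b • c + c) + (a • b • b • c + a • a • b • c + c) +
      (a • a • c + a • c + c) + (a • a • b • c + a • b • c + b • c) +
      (a • a • b • b • c + a • b • b • c + b • b • c) = 0 := by
    rw [e0, e1, e2, e3, f1, f2]; simp
  have hn : ∀ x : V, (2 : ℕ) • x = 0 ∧ (5 : ℕ) • x = x ∧ (2 : ℤ) • x = 0 ∧ (5 : ℤ) • x = x := fun x =>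
    ⟨by rw [two_nsmul, M.two],
      by rw [show 5 = 2 + 2 + 1 from rfl, add_nsmul, add_nsmul, two_nsmul, M.two]; simp,
      by rw [two_zsmul, M.two],
      by rw [show (5 : ℤ) = 2 + 2 + 1 from rfl, add_zsmul, add_zsmul, two_zsmul, M.two]; simp⟩
  abel_nf at t1
  simpa [hn] using t1

end CfsgLib.CharsMore.SUFive
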