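import Cfsg.Agent.Lib.CharsMore.TwoRadical.SUClass

/-!
Transvections and frame elements of SU(5,2).
-/

set_option autoImplicit false
set_option linter.unusedSectionVars false
set_option linter.style.haveILetI false

namespace CfsgLib.CharsMore.SUFive

open Cfsg CfsgLib.Classical.Unitary CfsgLib.CharsMore.TwoRadical
open Matrix

variable {F : Type} [Field F] {σ : F →+* F}
variable (hF : Nat.card F = 2 ^ 2) (h : UFrob σ 2)

/-- The transvection at a singular vector, totalised. -/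
noncomputable def tt (u : Fin 5 → F) : Cfsg.SU 5 F 2 :=
  haveI : Decidable (uh σ u u = 0) := _root_.Classical.propDecidable _
  if hu : uh σ u u = 0 then tv hF h u hu else 1

theorem tt_eq {u : Fin 5 → F} (hu : uh σ u u = 0) : tt hF h u = tv hF h u hu := by
  rw [tt, dif_pos hu]

/-- The singular nonzero vectors. -/
def IsPt (σ : F →+* F) (u : Fin 5 → F) : Prop := u ≠ 0 ∧ uh σ u u = 0

/-- The two-element supports. -/
def pv (i j : Fin 5) (c : F) : Fin 5 → F := Pi.single i 1 + Pi.single j c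

theorem tt_mulVec {u : Fin 5 → F} (hu : uh σ u u = 0) (x : Fin 5 → F) :
    (tt hF h u).1.1 *ᵥ x = x + uh σ x u • u := by rw [tt_eq hF h hu, tv_mulVec]

theorem tt_sq {u : Fin 5 → F} (hu : uh σ u u = 0) : tt hF h u * tt hF h u = 1 := by
  rw [tt_eq hF h hu, tv_sq]

theorem tt_inv {u : Fin 5 → F} (hu : uh σ u u = 0) : (tt hF h u)⁻¹ = tt hF h u :=
  inv_eq_of_mul_eq_one_right (tt_sq hF h hu)

include h in
theorem map_pt (g : Cfsg.SU 5 F 2) {u : Fin 5 → F} (hu : IsPt σ u) : IsPt σ (g.1.1 *ᵥ u) := by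
  refine ⟨fun e => hu.1 ?_, by rw [su_uh h]; exact hu.2⟩
  have := congrArg (fun v => (g⁻¹).1.1 *ᵥ v) e
  simpa only [← su_mul_mulVec, inv_mul_cancel, su_one_mulVec, mulVec_zero] using this

theorem smul_pt {u : Fin 5 → F} {c : F} (hc : c ≠ 0) (hu : IsPt σ u) : IsPt σ (c • u) :=
  ⟨smul_ne_zero hc hu.1, by rw [uh_smul_left, uh_smul_right, hu.2, mul_zero, mul_zero]⟩

theorem tt_conj (g : Cfsg.SU 5 F 2) {u : Fin 5 → F} (hu : uh σ u u = 0) :
    g * tt hF h u * g⁻¹ = tt hF h (g.1.1 *ᵥ u) := by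
  have hw : uh σ (g.1.1 *ᵥ u) (g.1.1 *ᵥ u) = 0 := by rw [su_uh h]; exact hu
  rw [tt_eq hF h hu, tt_eq hF h hw, tv_conj hF h g hu hw rfl]

theorem tt_smul {u : Fin 5 → F} {c : F} (hc : c ≠ 0) (hu : uh σ u u = 0) :
    tt hF h (c • u) = tt hF h u := by
  have hw : uh σ (c • u) (c • u) = 0 := by rw [uh_smul_left, uh_smul_right, hu, mul_zero, mul_zero]
  rw [tt_eq hF h hu, tt_eq hF h hw, tv_smul hF h hc hu]

/-- The third vector of a pair. -/
def third (σ : F →+* F) (u v : Fin 5 → F) : Fin 5 → F := v + uh σ v u • u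

include hF h in
theorem third_pt {u v : Fin 5 → F} (hu : IsPt σ u) (hv : IsPt σ v) : IsPt σ (third σ u v) := by
  have := map_pt h (tt hF h u) hv
  rwa [tt_mulVec hF h hu.2] at this

theorem tt_third {u v : Fin 5 → F} (hu : uh σ u u = 0) (hv : uh σ v v = 0) :
    tt hF h u * tt hF h v * tt hF h u = tt hF h (third σ u v) := by
  have := tt_conj hF h (tt hF h u) hv
  rwa [tt_inv hF h hu, tt_mulVec hF h hu] at this

/-- A product of two transvections moves one point to the other. -/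
theorem pair_move {u v : Fin 5 → F} (hu : uh σ u u = 0) (hv : uh σ v v = 0)
    (huv : uh σ u v ≠ 0) :
    (tt hF h u * tt hF h v).1.1 *ᵥ u = uh σ u v • v := by
  rw [su_mul_mulVec, tt_mulVec hF h hv, tt_mulVec hF h hu, uh_add_left, hu, zero_add, uh_smul_left,
    ← h.symm u v, norm_eq_one hF h huv, one_smul, add_comm u, add_assoc, addV hF, add_zero]

theorem tt_commute {u v : Fin 5 → F} (hu : uh σ u u = 0) (hv : uh σ v v = 0)
    (huv : uh σ u v = 0) : Commute (tt hF h u) (tt hF h v) := by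
  rw [tt_eq hF h hu, tt_eq hF h hv]; exact tv_commute hF h hu hv (h.swap_zero huv)

theorem tt_commute_iff {u v : Fin 5 → F} (hu : IsPt σ u) (hv : IsPt σ v) :
    Commute (tt hF h u) (tt hF h v) ↔ uh σ u v = 0 := by
  refine ⟨fun hc => ?_, tt_commute hF h hu.2 hv.2⟩
  by_contra huv
  have h1 : (tt hF h u * tt hF h v).1.1 *ᵥ u = (tt hF h v * tt hF h u).1.1 *ᵥ u := by rw [hc.eq]
  rw [pair_move hF h hu.2 hv.2 huv, su_mul_mulVec, tt_mulVec hF h hu.2, hu.2, zero_smul, add_zero,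
    tt_mulVec hF h hv.2, eq_comm, add_eq_right] at h1
  exact hu.1 h1

theorem line_of_tt_eq {u v : Fin 5 → F} (hu : IsPt σ u) (hv : IsPt σ v) (e : tt hF h u = tt hF h v) :
    ∃ c : F, c ≠ 0 ∧ v = c • u := by
  obtain ⟨y, hy⟩ := exists_uh_eq_one h hv.1
  have h1 : (tt hF h u).1.1 *ᵥ y = (tt hF h v).1.1 *ᵥ y := by rw [e]
  rw [tt_mulVec hF h hu.2, tt_mulVec hF h hv.2, hy, one_smul, add_right_inj] at h1
  exact ⟨_, fun h0 => hv.1 (by rw [← h1, h0, zero_smul]), h1.symm⟩

include hF h in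
theorem sigma_mul (x : F) : σ x = x * x := by rw [h.pow, pow_two]

include hF h in
theorem cube {x : F} (hx : x ≠ 0) : x * x * x = 1 := by
  have h1 := norm_eq_one hF h hx
  rw [sigma_mul hF h] at h1
  linear_combination h1

include hF h in
theorem omega_exists : ∃ ω : F, ω * ω = ω + 1 := by
  obtain ⟨θ, hθ⟩ := exists_trace_one hF h
  rw [sigma_mul hF h] at hθ
  exact ⟨θ, by linear_combination hθ - addF hF θ⟩

include hF in
theorem omega_ne {ω : F} (hω : ω * ω = ω + 1) : ω ≠ 0 ∧ ω ≠ 1 ∧ ω + 1 ≠ 0 ∧ ω + 1 ≠ 1 := by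
  refine ⟨?_, ?_, ?_, ?_⟩ <;> intro e
  · rw [e] at hω; simp at hω
  · rw [e] at hω; simp [addF hF] at hω
  · rw [e] at hω
    rw [eq_zero_of_mul_self_eq_zero hω] at e; simp at e
  · rw [add_eq_right] at e
    rw [e] at hω; simp at hω

include hF h in
theorem four_cases {ω : F} (hω : ω * ω = ω + 1) {x : F} :
    x = 0 ∨ x = 1 ∨ x = ω ∨ x = ω + 1 := by
  rcases eq_or_ne x 0 with h0 | h0
  · exact Or.inl h0
  refine Or.inr ?_
  have hp : (x + 1) * ((x + ω) * (x + (ω + 1))) = 0 := by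
    linear_combination cube hF h h0 + (x + 1) * hω + (2 * x * ω + x + x * x + ω * x * x + ω + 1) * two_eq_zero hF
  rcases mul_eq_zero.1 hp with e | e
  · exact Or.inl (by linear_combination e - addF hF (1 : F))
  rcases mul_eq_zero.1 e with e | e
  · exact Or.inr (Or.inl (by linear_combination e - addF hF ω))
  · exact Or.inr (Or.inr (by linear_combination e - addF hF (ω + 1)))

include hF in
theorem add_self_left (a b : F) : a + (a + b) = b := by rw [← add_assoc, addF hF, zero_add]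

include hF h in
theorem uh_five (u v : Fin 5 → F) : uh σ u v = u 0 * (v 0 * v 0) + u 1 * (v 1 * v 1) +
    u 2 * (v 2 * v 2) + u 3 * (v 3 * v 3) + u 4 * (v 4 * v 4) := by
  simp [uh, dotProduct, Fin.sum_univ_five, sigma_mul hF h]

include hF h in
/-- A singular vector has a zero coordinate. -/
theorem exists_zero {u : Fin 5 → F} (hu : uh σ u u = 0) : ∃ i, u i = 0 := by
  by_contra hc
  push Not at hc
  rw [uh_five hF h] at hu
  rw [show u 0 * (u 0 * u 0) = 1 by rw [← mul_assoc]; exact cube hF h (hc 0),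
    show u 1 * (u 1 * u 1) = 1 by rw [← mul_assoc]; exact cube hF h (hc 1),
    show u 2 * (u 2 * u 2) = 1 by rw [← mul_assoc]; exact cube hF h (hc 2),
    show u 3 * (u 3 * u 3) = 1 by rw [← mul_assoc]; exact cube hF h (hc 3),
    show u 4 * (u 4 * u 4) = 1 by rw [← mul_assoc]; exact cube hF h (hc 4), addF hF, zero_add,
    addF hF, zero_add] at hu
  exact one_ne_zero hu

include hF h in
theorem pv_pt {i j : Fin 5} (hij : i ≠ j) {c : F} (hc : c ≠ 0) : IsPt σ (pv i j c) := by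
  refine ⟨fun e => ?_, ?_⟩
  · have := congrFun e j
    simp [pv, hij.symm, hc] at this
  · simp [pv, uh_add_left, uh_add_right, uh_single_left, hij, hij.symm, norm_eq_one hF h hc,
      addF hF]

theorem pv_mulVec {i j : Fin 5} (hij : i ≠ j) {c : F} (hc : c ≠ 0) (x : Fin 5 → F) (k : Fin 5) :
    ((tt hF h (pv i j c)).1.1 *ᵥ x) k =
      if k = i then σ c * x j else if k = j then c * x i else x k := by
  have hn := norm_eq_one hF h hc
  rw [tt_mulVec hF h (pv_pt hF h hij hc).2]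
  simp only [pv, uh_add_right, uh_single_right, map_one, mul_one, Pi.add_apply, Pi.smul_apply,
    smul_eq_mul]
  by_cases h1 : k = i
  · subst h1
    simp [hij, ← add_assoc, addF hF, mul_comm]
  by_cases h2 : k = j
  · subst h2
    simp [h1]
    linear_combination (x k) * hn + addF hF (x k)
  · simp [h1, h2]

/-- The scalar element on the first four coordinates. -/
noncomputable def zLast (ω : F) : Cfsg.SU 5 F 2 :=
  tt hF h ![0, 1, 1, 0, 0] * tt hF h ![0, 1, ω, 0, 0] * tt hF h ![1, 0, 1, 0, 0] *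
    tt hF h ![1, 0, ω, 0, 0] * tt hF h ![0, 0, 0, 1, 1] * tt hF h ![0, 0, 0, 1, ω]

include hF h in
theorem two_vectors {ω : F} (hω : ω * ω = ω + 1) :
    uh σ ![0, 1, 1, 0, 0] ![0, 1, 1, 0, 0] = 0 ∧ uh σ ![0, 1, ω, 0, 0] ![0, 1, ω, 0, 0] = 0 ∧
      uh σ ![1, 0, 1, 0, 0] ![1, 0, 1, 0, 0] = 0 ∧ uh σ ![1, 0, ω, 0, 0] ![1, 0, ω, 0, 0] = 0 ∧
      uh σ ![0, 0, 0, 1, 1] ![0, 0, 0, 1, 1] = 0 ∧ uh σ ![0, 0, 0, 1, ω] ![0, 0, 0, 1, ω] = 0 := by
  refine ⟨?_, ?_, ?_, ?_, ?_, ?_⟩ <;>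
    simp [uh_five hF h, hω, mul_add, addF hF, add_comm, add_left_comm, add_self_left hF]

theorem zLast_mulVec {ω : F} (hω : ω * ω = ω + 1) (x : Fin 5 → F) :
    (zLast hF h ω).1.1 *ᵥ x = ω • x + x 4 • Pi.single 4 1 := by
  obtain ⟨a, b, c, d, e, f⟩ := two_vectors hF h hω
  have hωl : ∀ y, ω * (ω * y) = ω * y + y := fun y => by rw [← mul_assoc, hω, add_mul, one_mul]
  simp only [zLast, su_mul_mulVec, tt_mulVec hF h a, tt_mulVec hF h b, tt_mulVec hF h c,
    tt_mulVec hF h d, tt_mulVec hF h e, tt_mulVec hF h f, uh_five hF h]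
  funext k
  fin_cases k <;>
    simp [hω, hωl, mul_add, add_mul, mul_comm, mul_left_comm, addF hF, add_comm, add_left_comm,
      add_self_left hF, Matrix.vecHead, Matrix.vecTail]

/-- The frame element at a coordinate. -/
noncomputable def zf (ω : F) (i : Fin 5) : Cfsg.SU 5 F 2 :=
  if i = 4 then zLast hF h ω
  else tt hF h (pv i 4 1) * zLast hF h ω * tt hF h (pv i 4 1)

theorem zf_mulVec {ω : F} (hω : ω * ω = ω + 1) (i : Fin 5) (x : Fin 5 → F) :
    (zf hF h ω i).1.1 *ᵥ x = ω • x + x i • Pi.single i 1 := by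
  unfold zf
  split_ifs with hi
  · subst hi; exact zLast_mulVec hF h hω x
  funext k
  simp only [su_mul_mulVec, pv_mulVec hF h hi one_ne_zero, zLast_mulVec hF h hω, Pi.add_apply,
    Pi.smul_apply, smul_eq_mul, map_one, one_mul]
  by_cases h1 : k = i
  · subst h1
    simp [hi, Ne.symm hi]
  by_cases h2 : k = 4
  · subst h2
    simp [h1, Ne.symm hi]
  · simp [h1, h2]

theorem zf_commute {ω : F} (hω : ω * ω = ω + 1) (i j : Fin 5) :
    Commute (zf hF h ω i) (zf hF h ω j) := by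
  refine su_ext fun x => ?_
  rw [su_mul_mulVec, su_mul_mulVec, zf_mulVec hF h hω, zf_mulVec hF h hω, zf_mulVec hF h hω,
    zf_mulVec hF h hω]
  funext k
  rcases eq_or_ne i j with rfl | hij
  · rfl
  simp only [Pi.add_apply, Pi.smul_apply, smul_eq_mul]
  by_cases h1 : k = i
  · subst h1; simp [hij, mul_add]
  by_cases h2 : k = j
  · subst h2; simp [h1, mul_add]
  · simp [h1, h2, hij, Ne.symm hij]

theorem zf_tt {ω : F} (hω : ω * ω = ω + 1) (i : Fin 5) {u : Fin 5 → F} (hu : uh σ u u = 0)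
    (hi : u i = 0) : Commute (zf hF h ω i) (tt hF h u) := by
  refine mul_inv_eq_iff_eq_mul.1 ?_
  rw [tt_conj hF h _ hu, zf_mulVec hF h hω, hi, zero_smul, add_zero,
    tt_smul hF h (omega_ne hF hω).1 hu]

/-- A swap exchanges two frame elements. -/
theorem pv_zf {ω : F} (hω : ω * ω = ω + 1) {i j : Fin 5} (hij : i ≠ j) {c : F} (hc : c ≠ 0) :
    tt hF h (pv i j c) * zf hF h ω j * tt hF h (pv i j c) = zf hF h ω i := by
  refine su_ext fun x => ?_
  funext k
  have hn := norm_eq_one hF h hc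
  simp only [su_mul_mulVec, pv_mulVec hF h hij hc, zf_mulVec hF h hω, Pi.add_apply,
    Pi.smul_apply, smul_eq_mul]
  by_cases h1 : k = i
  · subst h1
    simp [hij, hij.symm]
    linear_combination (ω * x k + x k) * hn
  by_cases h2 : k = j
  · subst h2
    simp [h1, Ne.symm h1]
    linear_combination (ω * x k) * hn
  · simp [h1, h2]

end CfsgLib.CharsMore.SUFive
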